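import Cfsg.Agent.Mrg.Omega.NO3S.ThmB.Inst
import Cfsg.Agent.Mrg.Omega.Half.Basic

section


/-!
# Natural lines with a radical: the groups `[U, L_j]` (#21048)

`M : NatKM F S P U D k`, `h : Nb M`.

* `cent_off` : an element which acts as `A ∈ SL₂(F)^k` and centralises `D` centralises all `d ∈ U` with `e d l = 0`
  whenever `A l ≠ 1`;
* `blk M j = ⟨[c, v] : v ∈ U, c acts as A on the `j`-th summand and trivially on D and the other summands⟩`;
* `Nb.comm_blk` **(EQ)** : `x ∈ P` acts trivially on the `j`-th summand of `U / D` ⟹ `x` centralises `blk M j`;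
* `Nb.exists_blk` : if `zc S ≤ E`, `U ≰ E`, then `blk M j ≰ E` for some `j`.
-/

set_option autoImplicit false
set_option linter.unusedSectionVars false

namespace Cfsg.Agent.Omega.NO3S.KeyRad

open Subgroup Cfsg Cfsg.Agent.ZN Cfsg.Agent.ZN.ChoiceBase
open Cfsg.Agent.Omega.FFThm Cfsg.Agent.Omega.NatPair Cfsg.Agent.Lib.SL2Mat
open Cfsg.Agent.Omega.NO3S.ThmB

universe u

variable {G : Type u} [Group G] {F : Type} [Field F] {S P U D : Subgroup G} {k : ℕ}

/-- `[U, L_j]` -/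
def blk (M : NatKM F S P U D k) (j : Fin k) : Subgroup G :=
  closure {y | ∃ c ∈ P, ∃ A, ActsSL M.e U D c (sg j A) ∧ ∃ v ∈ U, y = c * v * c⁻¹ * v⁻¹}

theorem mem_blk {M : NatKM F S P U D k} {j : Fin k} {c : G} (hc : c ∈ P) {A : Matrix.SpecialLinearGroup (Fin 2) F}
    (hA : ActsSL M.e U D c (sg j A)) {v : G} (hv : v ∈ U) : c * v * c⁻¹ * v⁻¹ ∈ blk M j :=
  subset_closure ⟨c, hc, A, hA, v, hv, rfl⟩

variable {M : NatKM F S P U D k} (h : Nb M)
include h

/-- **(dir)** for several summands -/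
theorem cent_off [CharP F 2] {g : G} {A : Fin k → Matrix.SpecialLinearGroup (Fin 2) F} (hg : g ∈ P)
    (hA : ActsSL M.e U D g A) {d : G} (hd : d ∈ U) (h0 : ∀ l, A l ≠ 1 → M.e d l = 0) : g * d = d * g := by
  classical
  have key : ∀ s : Finset (Fin k), (∀ l ∈ s, A l = 1) → ∀ d ∈ U, (∀ l, l ∉ s → M.e d l = 0) → g * d = d * g := by
    intro s
    induction s using Finset.induction_on with
    | empty =>
      intro _ d hd h0
      have h1 : d ∈ D := (M.ker d hd).1 (funext fun l => h0 l (Finset.notMem_empty l))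
      exact hA.2 d h1
    | insert a s has ih =>
      intro hs d hd h0
      obtain ⟨v, hv, hva, hvl⟩ := Nb.exists_single M a (M.e d a)
      have h1 : g * v = v * g := h.dir hg hA (hs a (Finset.mem_insert_self a s)) hv hvl
      have h2 : g * (d * v⁻¹) = d * v⁻¹ * g := by
        refine ih (fun l hl => hs l (Finset.mem_insert_of_mem hl)) _ (mul_mem hd (inv_mem hv)) fun l hl => ?_
        rw [h.e_div hd hv, Pi.add_apply]
        by_cases hla : l = a
        · rw [hla, hva]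
          funext i
          exact CharTwo.add_self_eq_zero _
        · rw [hvl l hla, h0 l (fun h3 => (Finset.mem_insert.1 h3).elim hla hl), add_zero]
      have h3 : d = d * v⁻¹ * v := by group
      rw [h3]
      exact (show Commute g (d * v⁻¹) from h2).mul_right (show Commute g v from h1)
  refine key (Finset.univ.filter fun l => A l = 1) (fun l hl => (Finset.mem_filter.1 hl).2) d hd fun l hl => h0 l ?_
  intro h1
  exact hl (Finset.mem_filter.2 ⟨Finset.mem_univ l, h1⟩)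

/-- a single factor centralises `{d : e d j = 0}` -/
theorem cent_sg [CharP F 2] {j : Fin k} {c : G} (hc : c ∈ P) {A : Matrix.SpecialLinearGroup (Fin 2) F}
    (hA : ActsSL M.e U D c (sg j A)) {d : G} (hd : d ∈ U) (h0 : M.e d j = 0) : c * d = d * c := by
  refine cent_off h hc hA hd fun l hl => ?_
  by_cases hlj : l = j
  · rw [hlj, h0]
  · exact absurd (sg_ne hlj A) hl

/-- `[c, v]` depends only on the `j`-th coordinate of `v` -/
theorem sg_congr [CharP F 2] {j : Fin k} {c : G} (hc : c ∈ P) {A : Matrix.SpecialLinearGroup (Fin 2) F}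
    (hA : ActsSL M.e U D c (sg j A)) {v w : G} (hv : v ∈ U) (hw : w ∈ U) (hvw : M.e v j = M.e w j) :
    c * v * c⁻¹ * v⁻¹ = c * w * c⁻¹ * w⁻¹ := by
  have h1 : M.e (v * w⁻¹) j = 0 := by
    rw [h.e_div hv hw, Pi.add_apply, hvw]
    funext i
    exact CharTwo.add_self_eq_zero _
  have h2 := cent_sg h hc hA (mul_mem hv (inv_mem hw)) h1
  have h3 : c * v * c⁻¹ * v⁻¹ = (c * (v * w⁻¹)) * w * c⁻¹ * v⁻¹ := by group
  have h4 : c * w * c⁻¹ ∈ U := h.memV hc hw
  rw [h3, h2]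
  calc v * w⁻¹ * c * w * c⁻¹ * v⁻¹ = v * w⁻¹ * (c * w * c⁻¹) * v⁻¹ := by group
    _ = (c * w * c⁻¹) * (v * w⁻¹) * v⁻¹ := by rw [h.cm (mul_mem hv (inv_mem hw)) h4]
    _ = c * w * c⁻¹ * (v * (w⁻¹ * v⁻¹)) := by group
    _ = c * w * c⁻¹ * (v * (v⁻¹ * w⁻¹)) := by rw [h.cm (inv_mem hw) (inv_mem hv)]
    _ = _ := by group

theorem blk_le (j : Fin k) : blk M j ≤ U := by
  rw [blk, closure_le]
  rintro _ ⟨c, hc, A, -, v, hv, rfl⟩
  exact mul_mem (h.memV hc hv) (inv_mem hv)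

theorem e_blk [CharP F 2] {j l : Fin k} (hl : l ≠ j) {w : G} (hw : w ∈ blk M j) : M.e w l = 0 := by
  have key : blk M j ≤ U ∧ ∀ w ∈ blk M j, M.e w l = 0 := by
    refine ⟨blk_le h j, fun w hw => ?_⟩
    refine closure_induction (p := fun w _ => M.e w l = 0) ?_ ?_ ?_ ?_ hw
    · rintro _ ⟨c, hc, A, hA, v, hv, rfl⟩
      rw [h.e_div (h.memV hc hv) hv, Pi.add_apply, hA.1 v hv l, sg_ne hl, ap_one]
      funext i
      exact CharTwo.add_self_eq_zero _
    · rw [Nb.e_one (M := M)]; rfl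
    · intro x y hx hy h1 h2
      rw [M.mul x (blk_le h j hx) y (blk_le h j hy), Pi.add_apply, h1, h2, add_zero]
    · intro x hx h1
      rw [h.e_inv (blk_le h j hx), h1]
  exact key.2 w hw

/-- `blk M j` covers the `j`-th coordinate -/
theorem exists_blk_e [CharP F 2] (j : Fin k) (x : Fin 2 → F) : ∃ w ∈ blk M j, M.e w j = x := by
  obtain ⟨w1, hw1, hw1j, -⟩ := Nb.exists_single M j ![0, x 0]
  obtain ⟨w2, hw2, hw2j, -⟩ := Nb.exists_single M j ![x 1, 0]
  obtain ⟨c1, hc1, hc1A⟩ := M.lift (sg j (up 1))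
  obtain ⟨c2, hc2, hc2A⟩ := M.lift (sg j (lo 1))
  have m1 := mem_blk hc1 hc1A hw1
  have m2 := mem_blk hc2 hc2A hw2
  refine ⟨_, mul_mem m1 m2, ?_⟩
  rw [M.mul _ (blk_le h j m1) _ (blk_le h j m2), h.e_div (h.memV hc1 hw1) hw1, h.e_div (h.memV hc2 hw2) hw2,
    Pi.add_apply, Pi.add_apply, Pi.add_apply, hc1A.1 w1 hw1 j, hc2A.1 w2 hw2 j, sg_self, sg_self, hw1j, hw2j]
  refine vec_eq ?_ ?_
  · rw [Pi.add_apply, Pi.add_apply, Pi.add_apply, ap_up_0, ap_lo_0]
    simp only [Matrix.cons_val_zero, Matrix.cons_val_one, one_mul, zero_add, add_zero]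
    rw [CharTwo.add_self_eq_zero, add_zero]
  · rw [Pi.add_apply, Pi.add_apply, Pi.add_apply, ap_up_1, ap_lo_1]
    simp only [Matrix.cons_val_zero, Matrix.cons_val_one, one_mul, add_zero]
    rw [CharTwo.add_self_eq_zero, zero_add]

/-- `[c, v] = [c, w]` for some `w ∈ blk M j` -/
theorem exists_blk_comm [CharP F 2] {j : Fin k} {c : G} (hc : c ∈ P) {A : Matrix.SpecialLinearGroup (Fin 2) F}
    (hA : ActsSL M.e U D c (sg j A)) {v : G} (hv : v ∈ U) :
    ∃ w ∈ blk M j, c * v * c⁻¹ * v⁻¹ = c * w * c⁻¹ * w⁻¹ := by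
  obtain ⟨w, hw, hwj⟩ := exists_blk_e h j (M.e v j)
  exact ⟨w, hw, sg_congr h hc hA hv (blk_le h j hw) hwj.symm⟩

/-- additivity of the conjugation -/
theorem e_conj_mul {g v w : G} (hg : g ∈ P) (hv : v ∈ U) (hw : w ∈ U) :
    M.e (g * (v * w) * g⁻¹) = M.e (g * v * g⁻¹) + M.e (g * w * g⁻¹) := by
  have e1 : g * (v * w) * g⁻¹ = g * v * g⁻¹ * (g * w * g⁻¹) := by group
  rw [e1, M.mul _ (h.memV hg hv) _ (h.memV hg hw)]

/-- **(EQ)** -/
theorem comm_blk [CharP F 2] {j : Fin k} {x : G} (hx : x ∈ P)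
    (hxv : ∀ v ∈ U, (∀ l, l ≠ j → M.e v l = 0) → M.e (x * v * x⁻¹) = M.e v) {w : G} (hw : w ∈ blk M j) :
    x * w = w * x := by
  obtain ⟨σ, hσ⟩ := M.perm x hx
  -- `σ j = j`
  have hσj : σ j = j := by
    obtain ⟨v, hv, hvj, hvl⟩ := Nb.exists_single M j ![1, 0]
    by_contra hne
    have h1 := (hσ v hv j).1 (by rw [hxv v hv hvl]; exact hvl _ hne)
    rw [hvj] at h1
    exact one_ne_zero (congrFun h1 0)
  -- the `j`-th coordinate of every vector is fixed
  have hxj : ∀ v ∈ U, M.e (x * v * x⁻¹) j = M.e v j := by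
    intro v hv
    obtain ⟨w, hw, hwj, hwl⟩ := Nb.exists_single M j (M.e v j)
    have h1 : M.e (v * w⁻¹) j = 0 := by
      rw [h.e_div hv hw, Pi.add_apply, hwj]
      funext i
      exact CharTwo.add_self_eq_zero _
    have h2 := (hσ _ (mul_mem hv (inv_mem hw)) j).2 h1
    rw [hσj] at h2
    have h3 : M.e (x * v * x⁻¹) = M.e (x * (v * w⁻¹) * x⁻¹) + M.e (x * w * x⁻¹) := by
      rw [← e_conj_mul h hx (mul_mem hv (inv_mem hw)) hw, inv_mul_cancel_right]
    rw [h3, Pi.add_apply, h2, zero_add, hxv w hw hwl, hwj]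
  have hgen : ∀ c ∈ P, ∀ A, ActsSL M.e U D c (sg j A) → ∀ v ∈ U,
      x * (c * v * c⁻¹ * v⁻¹) * x⁻¹ = c * v * c⁻¹ * v⁻¹ := by
    intro c hc A hA v hv
    have hyP : x * c * x⁻¹ ∈ P := mul_mem (mul_mem hx hc) (inv_mem hx)
    have hy : ActsSL M.e U D (x * c * x⁻¹) (sg j A) := by
      refine ⟨fun v hv i => ?_, fun d hd => ?_⟩
      · have hu : x⁻¹ * v * x ∈ U := by
          have := h.memV (inv_mem hx) hv
          rwa [inv_inv] at this
        have hcu : c * (x⁻¹ * v * x) * c⁻¹ ∈ U := h.memV hc hu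
        have m := mem_blk hc hA hu
        have e1 : x * c * x⁻¹ * v * (x * c * x⁻¹)⁻¹ = x * (c * (x⁻¹ * v * x) * c⁻¹) * x⁻¹ := by group
        have e2 : M.e v = M.e (x * (x⁻¹ * v * x) * x⁻¹) := by
          congr 1
          group
        by_cases hi : i = j
        · subst hi
          rw [e1, hxj _ hcu, hA.1 _ hu, sg_self, e2, hxj _ hu]
        · have e3 : c * (x⁻¹ * v * x) * c⁻¹ = c * (x⁻¹ * v * x) * c⁻¹ * (x⁻¹ * v * x)⁻¹ * (x⁻¹ * v * x) := by group
          rw [e1, e3, e_conj_mul h hx (blk_le h j m) hu, Pi.add_apply, ← e2, sg_ne hi, ap_one]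
          have h4 : M.e (x * (c * (x⁻¹ * v * x) * c⁻¹ * (x⁻¹ * v * x)⁻¹) * x⁻¹) i = 0 := by
            have h5 := hσ _ (blk_le h j m) (σ.symm i)
            rw [σ.apply_symm_apply] at h5
            refine h5.2 (e_blk h (fun h6 => hi ?_) m)
            rw [← hσj, ← h6, σ.apply_symm_apply]
          rw [h4, zero_add]
      · have hd' : x⁻¹ * d * x ∈ D := by
          have := conj_mem h.DP' (inv_mem hx) hd
          rwa [inv_inv] at this
        have h5 := hA.2 _ hd'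
        calc x * c * x⁻¹ * d = x * (c * (x⁻¹ * d * x)) * x⁻¹ := by group
          _ = x * (x⁻¹ * d * x * c) * x⁻¹ := by rw [h5]
          _ = d * (x * c * x⁻¹) := by group
    have hxvU := h.memV hx hv
    have h6 := h.same hyP hc hy hA hxvU
    have h7 := sg_congr h hc hA hxvU hv (hxj v hv)
    calc x * (c * v * c⁻¹ * v⁻¹) * x⁻¹ =
        x * c * x⁻¹ * (x * v * x⁻¹) * (x * c * x⁻¹)⁻¹ * (x * v * x⁻¹)⁻¹ := by group
      _ = c * (x * v * x⁻¹) * c⁻¹ * (x * v * x⁻¹)⁻¹ := by rw [h6]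
      _ = _ := h7
  have hle : blk M j ≤ centralizer ({x} : Set G) := by
    rw [blk, closure_le]
    rintro _ ⟨c, hc, A, hA, v, hv, rfl⟩
    rw [SetLike.mem_coe, mem_centralizer_singleton_iff]
    exact (mul_inv_eq_iff_eq_mul.1 (hgen c hc A hA v hv)).symm
  exact (mem_centralizer_singleton_iff.1 (hle hw)).symm

/-- a conjugate of a single factor is a single factor -/
theorem conj_sg [CharP F 2] {j : Fin k} {g c : G} (hg : g ∈ P) (hc : c ∈ P)
    {A : Matrix.SpecialLinearGroup (Fin 2) F} (hA : ActsSL M.e U D c (sg j A)) :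
    ∃ j' A', ActsSL M.e U D (g * c * g⁻¹) (sg j' A') := by
  obtain ⟨σ, hσ⟩ := M.perm g hg
  obtain ⟨B, hB⟩ := M.norm g hg c hc _ hA.1
  have hB1 : ∀ l, l ≠ σ j → B l = 1 := by
    intro l hl
    apply ap_inj
    intro x
    obtain ⟨v, hv, hvl, -⟩ := Nb.exists_single M l x
    have hu : g⁻¹ * v * g ∈ U := by
      have := h.memV (inv_mem hg) hv
      rwa [inv_inv] at this
    have m := mem_blk hc hA hu
    have e1 : g * c * g⁻¹ * v * (g * c * g⁻¹)⁻¹ =
        g * (c * (g⁻¹ * v * g) * c⁻¹ * (g⁻¹ * v * g)⁻¹ * (g⁻¹ * v * g)) * g⁻¹ := by group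
    have e2 : g * (g⁻¹ * v * g) * g⁻¹ = v := by group
    have h1 := hB v hv l
    rw [e1, e_conj_mul h hg (blk_le h j m) hu, Pi.add_apply, e2, hvl] at h1
    have h5 := hσ _ (blk_le h j m) (σ.symm l)
    rw [σ.apply_symm_apply] at h5
    rw [h5.2 (e_blk h (fun h6 => hl (by rw [← h6, σ.apply_symm_apply])) m), zero_add] at h1
    rw [← h1, ap_one]
  refine ⟨σ j, B (σ j), ?_⟩
  rw [← eq_sg hB1]
  refine ⟨hB, fun d hd => ?_⟩
  have hd' : g⁻¹ * d * g ∈ D := by
    have := conj_mem h.DP' (inv_mem hg) hd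
    rwa [inv_inv] at this
  have h5 := hA.2 _ hd'
  calc g * c * g⁻¹ * d = g * (c * (g⁻¹ * d * g)) * g⁻¹ := by group
    _ = g * (g⁻¹ * d * g * c) * g⁻¹ := by rw [h5]
    _ = d * (g * c * g⁻¹) := by group

/-- `P` normalises `∏ [U, L_j]` -/
theorem conj_iSup_blk [CharP F 2] {g y : G} (hg : g ∈ P) (hy : y ∈ ⨆ j, blk M j) : g * y * g⁻¹ ∈ ⨆ j, blk M j := by
  have hle : ⨆ j, blk M j ≤ (⨆ j, blk M j).comap (MulAut.conj g).toMonoidHom := by
    refine iSup_le fun j => ?_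
    rw [blk, closure_le]
    rintro _ ⟨c, hc, A, hA, v, hv, rfl⟩
    obtain ⟨j', A', hA'⟩ := conj_sg h hg hc hA
    have h1 := mem_blk (mul_mem (mul_mem hg hc) (inv_mem hg)) hA' (h.memV hg hv)
    have h2 : g * (c * v * c⁻¹ * v⁻¹) * g⁻¹ = g * c * g⁻¹ * (g * v * g⁻¹) * (g * c * g⁻¹)⁻¹ * (g * v * g⁻¹)⁻¹ := by group
    rw [SetLike.mem_coe, mem_comap]
    change g * (c * v * c⁻¹ * v⁻¹) * g⁻¹ ∈ _
    rw [h2]
    exact le_iSup (blk M) j' h1
  exact hle hy

/-- `U = ∏ [U, L_j] · Ω₁(Z(S))`, in the form needed -/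
theorem exists_blk [CharP F 2] {Z E : Subgroup G} (hZU : Z ≤ U) (hZS : ∀ z ∈ Z, ∀ s ∈ S, s * z = z * s)
    (hgen : ∀ K : Subgroup G, Z ≤ K → P ≤ normalizer (K : Set G) → U ≤ K) (hZE : Z ≤ E) (hUE : ¬ U ≤ E) :
    ∃ j, ¬ blk M j ≤ E := by
  classical
  by_contra hall
  push Not at hall
  refine hUE ((hgen ((⨆ j, blk M j) ⊔ Z) le_sup_right ?_).trans (sup_le (iSup_le hall) hZE))
  set Y : Subgroup G := (⨆ j, blk M j) ⊔ Z with hY
  have hYU : Y ≤ U := sup_le (iSup_le (blk_le h)) hZU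
  -- a criterion for elements of the normaliser
  have crit : ∀ g ∈ P, (∀ z ∈ Z, g * z * g⁻¹ ∈ Y) → (∀ z ∈ Z, g⁻¹ * z * g ∈ Y) → g ∈ normalizer (Y : Set G) := by
    have one : ∀ g ∈ P, (∀ z ∈ Z, g * z * g⁻¹ ∈ Y) → ∀ y ∈ Y, g * y * g⁻¹ ∈ Y := by
      intro g hg hz
      have hle : Y ≤ Y.comap (MulAut.conj g).toMonoidHom :=
        sup_le (fun y hy => (le_sup_left : _ ≤ Y) (conj_iSup_blk h hg hy)) fun z hz' => hz z hz'
      exact fun y hy => hle hy
    intro g hg h1 h2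
    refine mem_normalizer_iff.2 fun y => ⟨one g hg h1 y, fun hy => ?_⟩
    have h3 := one g⁻¹ (inv_mem hg) (fun z hz => by rw [inv_inv]; exact h2 z hz) _ hy
    have e : g⁻¹ * (g * y * g⁻¹) * g⁻¹⁻¹ = y := by group
    rwa [e] at h3
  -- single factors
  have hsg : ∀ j A, ∀ c ∈ P, ActsSL M.e U D c (sg j A) → c ∈ normalizer (Y : Set G) := by
    intro j A c hc hA
    have one : ∀ j A, ∀ c ∈ P, ActsSL M.e U D c (sg j A) → ∀ z ∈ Z, c * z * c⁻¹ ∈ Y := by
      intro j A c hc hA z hz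
      have e : c * z * c⁻¹ = c * z * c⁻¹ * z⁻¹ * z := by group
      rw [e]
      exact mul_mem ((le_sup_left : _ ≤ Y) (le_iSup (blk M) j (mem_blk hc hA (hZU hz)))) ((le_sup_right : _ ≤ Y) hz)
    refine crit c hc (one j A c hc hA) fun z hz => ?_
    have h1 := h.acts_inv hc hA
    have h2 : (sg j A)⁻¹ = sg j A⁻¹ := by
      funext l
      rw [Pi.inv_apply]
      by_cases hl : l = j
      · rw [hl, sg_self, sg_self]
      · rw [sg_ne hl, sg_ne hl, inv_one]
    rw [h2] at h1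
    have h3 := one j A⁻¹ c⁻¹ (inv_mem hc) h1 z hz
    rwa [inv_inv] at h3
  refine M.gen _ ?_ ?_
  · intro s hs
    refine crit s (h.SP' hs) (fun z hz => ?_) fun z hz => ?_
    · rw [hZS z hz s hs, mul_inv_cancel_right]
      exact (le_sup_right : _ ≤ Y) hz
    · have h1 := hZS z hz s⁻¹ (inv_mem hs)
      rw [h1, inv_mul_cancel_right]
      exact (le_sup_right : _ ≤ Y) hz
  · intro g hg A hA
    have key : ∀ s : Finset (Fin k), ∀ A : Fin k → Matrix.SpecialLinearGroup (Fin 2) F, (∀ l, l ∉ s → A l = 1) →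
        ∀ g ∈ P, ActsSL M.e U D g A → g ∈ normalizer (Y : Set G) := by
      intro s
      induction s using Finset.induction_on with
      | empty =>
        intro A hA1 g hg hA
        have hA' : A = 1 := funext fun l => hA1 l (Finset.notMem_empty l)
        subst hA'
        refine mem_normalizer_iff.2 fun y => ?_
        constructor
        · intro hy
          rwa [h.comm_of_one hg hA (hYU hy), mul_inv_cancel_right]
        · intro hy
          have h1 := h.comm_of_one hg hA (hYU hy)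
          have h3 : g⁻¹ * (g * (g * y * g⁻¹)) = g⁻¹ * (g * y * g⁻¹ * g) := by rw [h1]
          rw [inv_mul_cancel_left, inv_mul_cancel_right, inv_mul_cancel_left] at h3
          rwa [h3] at hy
      | insert a s has ih =>
        intro A hA1 g hg hA
        obtain ⟨c, hc, hcA⟩ := M.lift (sg a (A a))
        have h1 := h.acts_mul hg (h.acts_inv hc hcA) hA
        have h2 := ih _ (fun l hl => ?_) (c⁻¹ * g) (mul_mem (inv_mem hc) hg) h1
        · have h3 := mul_mem (hsg a (A a) c hc hcA) h2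
          rwa [mul_inv_cancel_left] at h3
        · rw [Pi.mul_apply, Pi.inv_apply]
          by_cases hla : l = a
          · rw [hla, sg_self, inv_mul_cancel]
          · rw [sg_ne hla, hA1 l (fun h3 => (Finset.mem_insert.1 h3).elim hla hl), inv_one, one_mul]
    exact key Finset.univ A (fun l hl => absurd (Finset.mem_univ l) hl) g hg hA

end Cfsg.Agent.Omega.NO3S.KeyRad

end

section


/-!
# Natural lines with a radical: `B` on a bad block (#21048; THEOREM LOW (T3)-(T5) for `M : NatKM F S P U D k`)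

`QB S U B E` (helper934): `B ≤ S` elementary abelian, `[U, B, B] = 1`, no `w ∈ U - E` has only one image under the elements
of `B` which move it; `blk M i ≰ E`.

* `fix` : (T3), `B` fixes the `i`-th summand; `linear` : (T4), `B` is `F`-linear on it;
* `exists_up` : (T5), every `b ∈ B` acts as `up β` on the `i`-th coordinate;
* `eq_lift` : `b w b⁻¹ = g w g⁻¹` for `w ∈ blk M i`, `g` acting as `up β` on the `i`-th coordinate and trivially on `D` and
  the others.
-/

set_option autoImplicit false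
set_option linter.unusedSectionVars false

namespace Cfsg.Agent.Omega.NO3S.KeyRad

open Subgroup Cfsg Cfsg.Agent.ZN Cfsg.Agent.ZN.ChoiceBase
open Cfsg.Agent.Omega.FFThm Cfsg.Agent.Omega.NatPair Cfsg.Agent.Lib.SL2Mat
open Cfsg.Agent.Omega.NO3S.ThmB
open Cfsg.Agent.Omega.NOThreeL.Low.Nat (QB semi_dich)

universe u

variable {G : Type u} [Group G] {F : Type} [Field F] {S P U D : Subgroup G} {k : ℕ}

section ph

/-- an element with coordinate `x` at `i` and `0` elsewhere (unique modulo `D`) -/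
noncomputable def em (M : NatKM F S P U D k) (i : Fin k) (x : Fin 2 → F) : G := (Nb.exists_single M i x).choose

variable (M : NatKM F S P U D k)

theorem em_mem (i : Fin k) (x : Fin 2 → F) : em M i x ∈ U := (Nb.exists_single M i x).choose_spec.1

theorem e_em_self (i : Fin k) (x : Fin 2 → F) : M.e (em M i x) i = x := (Nb.exists_single M i x).choose_spec.2.1

theorem e_em_ne {i j : Fin k} (hj : j ≠ i) (x : Fin 2 → F) : M.e (em M i x) j = 0 :=
  (Nb.exists_single M i x).choose_spec.2.2 j hj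

/-- `g` as a map from the `i`-th summand to the `j`-th -/
noncomputable def ph (g : G) (i j : Fin k) (x : Fin 2 → F) : Fin 2 → F := M.e (g * em M i x * g⁻¹) j

end ph

/-- `g` permutes the summands by `σ` -/
def Mv (M : NatKM F S P U D k) (g : G) (σ : Equiv.Perm (Fin k)) : Prop :=
  ∀ v ∈ U, ∀ i, M.e (g * v * g⁻¹) (σ i) = 0 ↔ M.e v i = 0

variable {M : NatKM F S P U D k} (h : Nb M)
include h

section semi

variable [CharP F 2]

theorem addself (x : Fin 2 → F) : x + x = 0 := by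
  funext i
  exact CharTwo.add_self_eq_zero _

/-- `e v = e w` implies `e (g v g⁻¹) = e (g w g⁻¹)` -/
theorem e_conj_congr {g v w : G} (hg : g ∈ P) (hv : v ∈ U) (hw : w ∈ U) (hvw : M.e v = M.e w) :
    M.e (g * v * g⁻¹) = M.e (g * w * g⁻¹) := by
  rw [← h.mem_D (h.memV hg hv) (h.memV hg hw)]
  have h1 : v * w⁻¹ ∈ D := (h.mem_D hv hw).2 hvw
  have h2 := conj_mem h.DP' hg h1
  have e : g * (v * w⁻¹) * g⁻¹ = g * v * g⁻¹ * (g * w * g⁻¹)⁻¹ := by group
  rwa [e] at h2

/-- the coordinate of `g v g⁻¹` -/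
theorem e_conj {g : G} {σ : Equiv.Perm (Fin k)} (hg : g ∈ P) (hσ : Mv M g σ) {v : G} (hv : v ∈ U) (i : Fin k) :
    M.e (g * v * g⁻¹) (σ i) = ph M g i (σ i) (M.e v i) := by
  have he := em_mem M i (M.e v i)
  have h1 : M.e (v * (em M i (M.e v i))⁻¹) i = 0 := by
    rw [h.e_div hv he, Pi.add_apply, e_em_self, addself h]
  have h2 := (hσ _ (mul_mem hv (inv_mem he)) i).2 h1
  have e1 : v = v * (em M i (M.e v i))⁻¹ * em M i (M.e v i) := by group
  have h3 := congrFun (e_conj_mul h hg (mul_mem hv (inv_mem he)) he) (σ i)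
  rw [← e1, Pi.add_apply, h2, zero_add] at h3
  exact h3

theorem ph_add {g : G} (hg : g ∈ P) (i j : Fin k) (x y : Fin 2 → F) :
    ph M g i j (x + y) = ph M g i j x + ph M g i j y := by
  have hx := em_mem M i x
  have hy := em_mem M i y
  have h1 : M.e (em M i (x + y)) = M.e (em M i x * em M i y) := by
    rw [M.mul _ hx _ hy]
    funext l
    rw [Pi.add_apply]
    by_cases hl : l = i
    · rw [hl, e_em_self, e_em_self, e_em_self]
    · rw [e_em_ne M hl, e_em_ne M hl, e_em_ne M hl, add_zero]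
  rw [ph, e_conj_congr h hg (em_mem M i _) (mul_mem hx hy) h1, e_conj_mul h hg hx hy]
  rfl

theorem Mv.inv' {g : G} {σ : Equiv.Perm (Fin k)} (hg : g ∈ P) (hσ : Mv M g σ) : Mv M g⁻¹ σ.symm := by
  intro v hv i
  have h1 := hσ _ (h.memV (inv_mem hg) hv) (σ.symm i)
  have e1 : g * (g⁻¹ * v * g⁻¹⁻¹) * g⁻¹ = v := by group
  rw [e1, σ.apply_symm_apply] at h1
  exact h1.symm

theorem ph_inv {g : G} {σ : Equiv.Perm (Fin k)} (hg : g ∈ P) (hσ : Mv M g σ) (i : Fin k) (x : Fin 2 → F) :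
    ph M g⁻¹ (σ i) i (ph M g i (σ i) x) = x := by
  have h1 := e_conj h (inv_mem hg) (Mv.inv' h hg hσ) (h.memV hg (em_mem M i x)) (σ i)
  rw [σ.symm_apply_apply] at h1
  have e1 : g⁻¹ * (g * em M i x * g⁻¹) * g⁻¹⁻¹ = em M i x := by group
  rw [e1, e_em_self] at h1
  exact h1.symm

theorem ph_inv' {g : G} {σ : Equiv.Perm (Fin k)} (hg : g ∈ P) (hσ : Mv M g σ) (i : Fin k) (x : Fin 2 → F) :
    ph M g i (σ i) (ph M g⁻¹ (σ i) i x) = x := by
  have h1 := ph_inv h (inv_mem hg) (Mv.inv' h hg hσ) (σ i) x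
  rw [σ.symm_apply_apply, inv_inv] at h1
  exact h1

/-- **`P` acts semilinearly.** -/
theorem exists_semi [Finite F] {g : G} {σ : Equiv.Perm (Fin k)} (hg : g ∈ P) (hσ : Mv M g σ) (i : Fin k) :
    ∃ τ : F ≃+* F, ∀ (c : F) x, ph M g i (σ i) (c • x) = τ c • ph M g i (σ i) x := by
  classical
  obtain ⟨σ', hσ'⟩ := NatPair.exists_semi (ph M g i (σ i)) (ph M g⁻¹ (σ i) i) (ph_add h hg i (σ i))
    (ph_inv h hg hσ i) (ph_inv' h hg hσ i) (by
      intro A
      obtain ⟨h0, hh0, hA0, -⟩ := M.lift (Function.update 1 (σ i) A)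
      obtain ⟨B, hB⟩ := M.norm g⁻¹ (inv_mem hg) h0 hh0 _ hA0
      refine ⟨B i, fun x => ?_⟩
      have h1 := hB _ (em_mem M i x) i
      rw [e_em_self] at h1
      rw [← h1]
      have hx := em_mem M i x
      have h2 := h.memV hg hx
      have h3 := h.memV hh0 h2
      have e1 : g⁻¹ * h0 * g⁻¹⁻¹ * em M i x * (g⁻¹ * h0 * g⁻¹⁻¹)⁻¹ =
          g⁻¹ * (h0 * (g * em M i x * g⁻¹) * h0⁻¹) * g⁻¹⁻¹ := by group
      have h4 := e_conj h (inv_mem hg) (Mv.inv' h hg hσ) h3 (σ i)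
      rw [σ.symm_apply_apply, hA0 _ h2 (σ i), Function.update_self] at h4
      rw [e1, h4]
      rfl)
  exact exists_ringEquiv _ _ (ph_add h hg i (σ i)) (ph_inv h hg hσ i) σ' hσ'

end semi

section QB

variable {B E : Subgroup G} (q : QB S U B E)
include q

theorem BP : B ≤ P := q.BS.trans h.SP'

/-- the relation `c (w (b w b⁻¹)) c⁻¹ = w (b w b⁻¹)` modulo `D` -/
theorem rel {w b c : G} (hw : w ∈ U) (hb : b ∈ B) (hc : c ∈ B) :
    M.e (c * (b * w * b⁻¹) * c⁻¹) + M.e (c * w * c⁻¹) = M.e (b * w * b⁻¹) + M.e w := by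
  have hbP := BP h q hb
  have hcP := BP h q hc
  have hbw := h.memV hbP hw
  have hww : w⁻¹ = w := h.inv_eq hw
  have h1 := q.quad w hw b hb c hc
  rw [hww] at h1
  have h2 : c * (b * w * b⁻¹ * w) * c⁻¹ = b * w * b⁻¹ * w := by rw [h1]; group
  rw [← e_conj_mul h hcP hbw hw, h2, M.mul _ hbw _ hw]

variable [CharP F 2]

/-- if `x ∈ P` fixes the block `i` and `ph x i i = id`, then `x` centralises `blk M i` -/
theorem comm_of_ph {x : G} (hx : x ∈ P) {σ : Equiv.Perm (Fin k)} (hσ : Mv M x σ) {i : Fin k} (hσi : σ i = i)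
    (hph : ∀ y, ph M x i i y = y) {w : G} (hw : w ∈ blk M i) : x * w * x⁻¹ = w := by
  refine mul_inv_eq_iff_eq_mul.2 (comm_blk h hx (fun v hv hvl => ?_) hw)
  funext l
  by_cases hl : l = i
  · have h1 := e_conj h hx hσ hv i
    rw [hσi] at h1
    rw [hl, h1, hph]
  · rw [hvl l hl]
    have h1 := (hσ v hv (σ.symm l)).2 (hvl _ fun h2 => hl (by rw [← hσi, ← h2, σ.apply_symm_apply]))
    rwa [σ.apply_symm_apply] at h1

/-- `b, c ∈ P` act in the same way on the block `i` -/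
theorem comm_of_ph_eq {b c : G} (hb : b ∈ P) (hc : c ∈ P) {σ τ : Equiv.Perm (Fin k)} (hσ : Mv M b σ) (hτ : Mv M c τ)
    {i : Fin k} (hστ : τ i = σ i) (hph : ∀ y, ph M c i (σ i) y = ph M b i (σ i) y) {w : G} (hw : w ∈ blk M i) :
    c * w * c⁻¹ = b * w * b⁻¹ := by
  have hbc : b⁻¹ * c ∈ P := mul_mem (inv_mem hb) hc
  have h1 : Mv M (b⁻¹ * c) (τ.trans σ.symm) := by
    intro v hv l
    have e1 : b⁻¹ * c * v * (b⁻¹ * c)⁻¹ = b⁻¹ * (c * v * c⁻¹) * b⁻¹⁻¹ := by group
    rw [e1, Equiv.trans_apply, Mv.inv' h hb hσ _ (h.memV hc hv), hτ v hv]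
  have h2 : (τ.trans σ.symm) i = i := by rw [Equiv.trans_apply, hστ, σ.symm_apply_apply]
  have h3 : ∀ y, ph M (b⁻¹ * c) i i y = y := by
    intro y
    have e1 : b⁻¹ * c * em M i y * (b⁻¹ * c)⁻¹ = b⁻¹ * (c * em M i y * c⁻¹) * b⁻¹⁻¹ := by group
    have h4 := e_conj h (inv_mem hb) (Mv.inv' h hb hσ) (h.memV hc (em_mem M i y)) (σ i)
    rw [σ.symm_apply_apply] at h4
    rw [ph, e1, h4]
    change ph M b⁻¹ (σ i) i (ph M c i (σ i) y) = y
    rw [hph, ph_inv h hb hσ]
  have h4 := comm_of_ph h q hbc h1 h2 h3 hw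
  calc c * w * c⁻¹ = b * (b⁻¹ * c * w * (b⁻¹ * c)⁻¹) * b⁻¹ := by group
    _ = b * w * b⁻¹ := by rw [h4]

/-- **(T3)** `B` fixes the bad blocks. -/
theorem fix {i : Fin k} (hi : ¬ blk M i ≤ E) {b : G} (hb : b ∈ B) {σ : Equiv.Perm (Fin k)} (hσ : Mv M b σ) :
    σ i = i := by
  by_contra hne
  obtain ⟨w, hw, hwE⟩ := SetLike.not_le_iff_exists.1 hi
  have hbP := BP h q hb
  -- support of `b w b⁻¹`, `w = em M i x`
  have hsb : ∀ x j, j ≠ σ i → M.e (b * em M i x * b⁻¹) j = 0 := by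
    intro x j hj
    have h1 := (hσ _ (em_mem M i x) (σ.symm j)).2 (e_em_ne M (fun h2 => hj (by rw [← h2, σ.apply_symm_apply])) x)
    rwa [σ.apply_symm_apply] at h1
  have key : ∀ c ∈ B, c * w * c⁻¹ ≠ w → c * w * c⁻¹ = b * w * b⁻¹ := by
    intro c hc hcw
    have hcP := BP h q hc
    obtain ⟨τ, hτ⟩ := M.perm c hcP
    have hτ' : Mv M c τ := hτ
    have hsc : ∀ x j, j ≠ τ i → M.e (c * em M i x * c⁻¹) j = 0 := by
      intro x j hj
      have h1 := (hτ' _ (em_mem M i x) (τ.symm j)).2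
        (e_em_ne M (fun h2 => hj (by rw [← h2, τ.apply_symm_apply])) x)
      rwa [τ.apply_symm_apply] at h1
    have hsd : ∀ x j, j ≠ τ (σ i) → M.e (c * (b * em M i x * b⁻¹) * c⁻¹) j = 0 := by
      intro x j hj
      have h1 := (hτ' _ (h.memV hbP (em_mem M i x)) (τ.symm j)).2
        (hsb x _ (fun h2 => hj (by rw [← h2, τ.apply_symm_apply])))
      rwa [τ.apply_symm_apply] at h1
    have hr := fun x => rel h q (em_mem M i x) hb hc
    have hτi : τ i ≠ τ (σ i) := fun h1 => hne (τ.injective h1).symm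
    by_cases h1 : τ i = i
    · -- then `c w c⁻¹ = w`
      exfalso
      apply hcw
      refine comm_of_ph h q hcP hτ' h1 (fun x => ?_) hw
      have h2 := congrFun (hr x) i
      rw [Pi.add_apply, Pi.add_apply, hsd x i (fun h' => hτi (h1.trans h')), hsb x i (Ne.symm hne), zero_add,
        zero_add, e_em_self] at h2
      exact h2
    · by_cases h2 : τ i = σ i
      · refine comm_of_ph_eq h q hbP hcP hσ hτ' h2 (fun x => ?_) hw
        have h3 := congrFun (hr x) (σ i)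
        rw [Pi.add_apply, Pi.add_apply, hsd x (σ i) (fun h' => hτi (h2.trans h')), zero_add,
          show M.e (em M i x) (σ i) = 0 from e_em_ne M hne x, add_zero] at h3
        exact h3
      · exfalso
        have hnc : M.e (c * em M i ![1, 0] * c⁻¹) (τ i) ≠ 0 := by
          rw [Ne, hτ' _ (em_mem M i _) i, e_em_self]
          intro h3
          exact one_ne_zero (congrFun h3 0)
        apply hnc
        have h3 := congrFun (hr ![1, 0]) (τ i)
        rw [Pi.add_apply, Pi.add_apply, hsd _ (τ i) hτi, hsb _ (τ i) h2, zero_add,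
          show M.e (em M i ![1, 0]) (τ i) = 0 from e_em_ne M h1 _, add_zero] at h3
        exact h3
  exact q.t1 w (blk_le h i hw) hwE fun b1 hb1 c1 hc1 hm1 hm2 => (key b1 hb1 hm1).trans (key c1 hc1 hm2).symm

variable [Finite F]

/-- **(T4)** `B` is `F`-linear on the bad blocks. -/
theorem linear {i : Fin k} (hi : ¬ blk M i ≤ E) {b : G} (hb : b ∈ B) (c : F) (x : Fin 2 → F) :
    ph M b i i (c • x) = c • ph M b i i x := by
  have hfix : ∀ d ∈ B, ∃ σ : Equiv.Perm (Fin k), Mv M d σ ∧ σ i = i := by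
    intro d hd
    obtain ⟨σ, hσ⟩ := M.perm d (BP h q hd)
    exact ⟨σ, hσ, fix h q hi hd hσ⟩
  have hsemi : ∀ d ∈ B, ∃ τ : F ≃+* F, ∀ (c : F) x, ph M d i i (c • x) = τ c • ph M d i i x := by
    intro d hd
    obtain ⟨σ, hσ, hσi⟩ := hfix d hd
    have h1 := exists_semi h (BP h q hd) hσ i
    rwa [hσi] at h1
  -- the coordinates
  have hco : ∀ d ∈ B, ∀ v ∈ U, M.e (d * v * d⁻¹) i = ph M d i i (M.e v i) := by
    intro d hd v hv
    obtain ⟨σ, hσ, hσi⟩ := hfix d hd
    have h1 := e_conj h (BP h q hd) hσ hv i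
    rwa [hσi] at h1
  obtain ⟨s, hs⟩ := hsemi b hb
  by_cases hlin : ∀ l : F, s l = l
  · rw [hs, hlin]
  · exfalso
    push Not at hlin
    obtain ⟨l0, hl0⟩ := hlin
    have hTT : ∀ x, ph M b i i (ph M b i i x) = x := by
      intro x
      have h1 := hco b hb _ (h.memV (BP h q hb) (em_mem M i x))
      have h2 : b * (b * em M i x * b⁻¹) * b⁻¹ = b * b * em M i x * (b * b)⁻¹ := by group
      rw [h2, q.sq b hb, one_mul, inv_one, mul_one, e_em_self] at h1
      exact h1.symm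
    have hdich : ∀ d ∈ B, (∀ x, ph M d i i x = x) ∨ ∀ x, ph M d i i x = ph M b i i x := by
      intro d hd
      obtain ⟨t, ht⟩ := hsemi d hd
      refine semi_dich (ph_add h (BP h q hd) i i) hs ht hTT (fun x => ?_) hl0
      have hr := congrFun (rel h q (em_mem M i x) hb hd) i
      rw [Pi.add_apply, Pi.add_apply, hco d hd _ (h.memV (BP h q hb) (em_mem M i x)), hco d hd _ (em_mem M i x),
        e_em_self] at hr
      rw [ph_add h (BP h q hd), add_comm, add_comm x]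
      exact hr
    obtain ⟨w, hw, hwE⟩ := SetLike.not_le_iff_exists.1 hi
    apply q.t1 w (blk_le h i hw) hwE
    have key : ∀ d ∈ B, d * w * d⁻¹ ≠ w → d * w * d⁻¹ = b * w * b⁻¹ := by
      intro d hd hne
      obtain ⟨τ, hτ, hτi⟩ := hfix d hd
      obtain ⟨σ, hσ, hσi⟩ := hfix b hb
      rcases hdich d hd with h1 | h1
      · exact absurd (comm_of_ph h q (BP h q hd) hτ hτi h1 hw) hne
      · refine comm_of_ph_eq h q (BP h q hb) (BP h q hd) hσ hτ (hτi.trans hσi.symm) (fun y => ?_) hw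
        rw [hσi]
        exact h1 y
    exact fun b1 hb1 c1 hc1 hm1 hm2 => (key b1 hb1 hm1).trans (key c1 hc1 hm2).symm

/-- **(T5)** every element of `B` acts as an upper unitriangular matrix on a bad block. -/
theorem exists_up {i : Fin k} (hi : ¬ blk M i ≤ E) {b : G} (hb : b ∈ B) :
    ∃ β : F, ∀ v ∈ U, M.e (b * v * b⁻¹) i = ap (up β) (M.e v i) := by
  have hbP := BP h q hb
  obtain ⟨σ, hσ⟩ := M.perm b hbP
  have hσi := fix h q hi hb hσ
  have hlin := linear h q hi hb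
  have hadd := ph_add h (M := M) hbP i i
  have he : ∀ v ∈ U, M.e (b * v * b⁻¹) i = ph M b i i (M.e v i) := by
    intro v hv
    have h1 := e_conj h hbP hσ hv i
    rwa [hσi] at h1
  have hTT : ∀ x, ph M b i i (ph M b i i x) = x := by
    intro x
    have h1 := he _ (h.memV hbP (em_mem M i x))
    have h2 : b * (b * em M i x * b⁻¹) * b⁻¹ = b * b * em M i x * (b * b)⁻¹ := by group
    rw [h2, q.sq b hb, one_mul, inv_one, mul_one, e_em_self] at h1
    exact h1.symm
  -- the line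
  obtain ⟨σ', hσ'⟩ := M.line b (q.BS hb)
  have hoff : ∀ x j, j ≠ i → M.e (b * em M i x * b⁻¹) j = 0 := by
    intro x j hj
    have h1 := (hσ _ (em_mem M i x) (σ.symm j)).2
      (e_em_ne M (fun h2 => hj (by rw [← hσi, ← h2, σ.apply_symm_apply])) x)
    rwa [σ.apply_symm_apply] at h1
  have hσi' : σ' i = i := by
    by_contra hne
    have h1 := hσ' _ (em_mem M i ![0, 1]) i
    rw [e_em_self, hoff _ _ hne] at h1
    exact one_ne_zero (h1.1 rfl)
  have hline : ∀ x : Fin 2 → F, x 1 = 0 → ph M b i i x 1 = 0 := by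
    intro x hx
    have h1 := hσ' _ (em_mem M i x) i
    rw [hσi', e_em_self] at h1
    exact h1.2 hx
  set T := ph M b i i with hT
  have e1 : T ![1, 0] 1 = 0 := hline _ rfl
  have hdec : ∀ x : Fin 2 → F, x = x 0 • ![1, 0] + x 1 • ![0, 1] := fun x => ext2 (by simp) (by simp)
  have hTx : ∀ x : Fin 2 → F, T x = x 0 • T ![1, 0] + x 1 • T ![0, 1] := by
    intro x
    conv_lhs => rw [hdec x]
    rw [hadd, hlin, hlin]
  have hsq1 : ∀ a : F, a * a = 1 → a = 1 := by
    intro a ha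
    have h1 : (a + 1) * (a + 1) = 0 := by
      have h2 : (2 : F) = 0 := CharTwo.two_eq_zero
      linear_combination ha + (a + 1) * h2
    have h2 := mul_self_eq_zero.1 h1
    have h3 := CharTwo.add_eq_zero.1 h2
    exact h3
  have e2 : T ![1, 0] 0 = 1 := by
    apply hsq1
    have h1 := congrFun (hTT ![1, 0]) 0
    rw [hTx (T ![1, 0])] at h1
    simpa [e1] using h1
  have e3 : T ![0, 1] 1 = 1 := by
    apply hsq1
    have h1 := congrFun (hTT ![0, 1]) 1
    rw [hTx (T ![0, 1])] at h1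
    simpa [e1] using h1
  refine ⟨T ![0, 1] 0, fun v hv => ?_⟩
  rw [he v hv, hTx]
  apply ext2
  · rw [ap_zero', up_00, up_01]
    simp [e2]
    ring
  · rw [ap_one', up_10, up_11]
    simp [e1, e3]

/-- two elements of `P` with the same linear action on the coordinate `i` act in the same way on `blk M i` -/
theorem eq_lift {i : Fin k} {b g : G} (hb : b ∈ P) (hg : g ∈ P) {A : Matrix.SpecialLinearGroup (Fin 2) F}
    (hbA : ∀ v ∈ U, M.e (b * v * b⁻¹) i = ap A (M.e v i)) (hgA : ∀ v ∈ U, M.e (g * v * g⁻¹) i = ap A (M.e v i))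
    {w : G} (hw : w ∈ blk M i) : b * w * b⁻¹ = g * w * g⁻¹ := by
  have hfx : ∀ x ∈ P, (∀ v ∈ U, M.e (x * v * x⁻¹) i = ap A (M.e v i)) → ∀ σ, Mv M x σ → σ i = i := by
    intro x _ hxA σ hσ
    by_contra hne
    have hne' : i ≠ σ.symm i := fun h1 => hne (by conv_lhs => rw [h1, σ.apply_symm_apply])
    have h1 := (hσ _ (em_mem M (σ.symm i) ![1, 0]) (σ.symm i))
    rw [σ.apply_symm_apply, hxA _ (em_mem M _ _), e_em_ne M hne', e_em_self] at h1
    have h2 : ap A (0 : Fin 2 → F) = 0 := ap_zr A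
    exact one_ne_zero (congrFun (h1.1 h2) 0)
  obtain ⟨σ, hσ⟩ := M.perm b hb
  obtain ⟨τ, hτ⟩ := M.perm g hg
  have hσi := hfx b hb hbA σ hσ
  have hτi := hfx g hg hgA τ hτ
  refine comm_of_ph_eq h q hg hb hτ hσ (hσi.trans hτi.symm) (fun y => ?_) hw
  rw [hτi, ph, ph, hbA _ (em_mem M i y), hgA _ (em_mem M i y)]

end QB

end Cfsg.Agent.Omega.NO3S.KeyRad

end
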