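import Cfsg.Agent.Mrg.Omega.NO3S.ThmB.Inst
import Cfsg.Agent.Mrg.Omega.Half.Basic


/-!
# Even-subset lines with a radical: `U ≤ E` (#21048; THEOREM LOW (T2) for `M : SymKM S P U D k m`)

* `Tr M i x y t` : `t ∈ P` acts as the transposition `(x y)` of the `i`-th summand and centralises `D`;
* `comm_tr` : `t` centralises all `v ∈ U` with `e v i x = e v i y`;
* `Wt M i x y w` : `w = [t, u]` with `Tr M i x y t`, `e w = {x, y}`; unique; `P` permutes these elements;
* `exists_wt` : if `zc S ≤ E`, `U ≰ E`, then there is `w ∉ E` with `Wt M i 0 y w`;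
* `le_of_qb` : `QB S U B E`, `zc S ≤ E` ⟹ `U ≤ E`.
-/

set_option autoImplicit false
set_option linter.unusedSectionVars false

namespace Cfsg.Agent.Omega.NO3S.KeyRad.Sym

open Subgroup Cfsg Cfsg.Agent.ZN Cfsg.Agent.ZN.ChoiceBase
open Cfsg.Agent.Omega.FFThm
open Cfsg.Agent.Omega.NO3S.ThmB
open Cfsg.Agent.Omega.NOThreeL.Low.Nat (QB)

universe u

variable {G : Type u} [Group G] {S P U D : Subgroup G} {k m : ℕ}

/-- a transposition -/
def Tr (M : SymKM S P U D k m) (i : Fin k) (x y : Fin (2 ^ m + 1)) (t : G) : Prop := t ∈ P ∧ Ac M t (pr i x y)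

/-- the commutator with a transposition -/
def Wt (M : SymKM S P U D k m) (i : Fin k) (x y : Fin (2 ^ m + 1)) (w : G) : Prop :=
  M.e w = dl i x + dl i y ∧ ∃ t, Tr M i x y t ∧ ∃ u ∈ U, w = t * u * t⁻¹ * u⁻¹

theorem sg_swap_comm {k n : ℕ} {i : Fin k} {x y a b : Fin n} {l : Fin k} (hxy : l = i → a ≠ x ∧ a ≠ y ∧ b ≠ x ∧ b ≠ y) :
    pr i x y * pr l a b = pr l a b * pr i x y := by
  funext j
  rw [Pi.mul_apply, Pi.mul_apply, pr, pr]
  by_cases hli : l = i
  · subst hli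
    obtain ⟨h1, h2, h3, h4⟩ := hxy rfl
    by_cases hj : j = l
    · subst hj
      rw [sg_self, sg_self]
      ext1 z
      rw [Equiv.Perm.mul_apply, Equiv.Perm.mul_apply]
      by_cases hzx : z = x
      · subst hzx
        rw [Equiv.swap_apply_left, Equiv.swap_apply_of_ne_of_ne h1.symm h3.symm, Equiv.swap_apply_left,
          Equiv.swap_apply_of_ne_of_ne h2.symm h4.symm]
      · by_cases hzy : z = y
        · subst hzy
          rw [Equiv.swap_apply_right, Equiv.swap_apply_of_ne_of_ne h2.symm h4.symm, Equiv.swap_apply_right,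
            Equiv.swap_apply_of_ne_of_ne h1.symm h3.symm]
        · rw [Equiv.swap_apply_of_ne_of_ne hzx hzy]
          by_cases hza : z = a
          · subst hza
            rw [Equiv.swap_apply_left, Equiv.swap_apply_of_ne_of_ne h3 h4]
          · by_cases hzb : z = b
            · subst hzb
              rw [Equiv.swap_apply_right, Equiv.swap_apply_of_ne_of_ne h1 h2]
            · rw [Equiv.swap_apply_of_ne_of_ne hza hzb, Equiv.swap_apply_of_ne_of_ne hzx hzy]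
    · rw [sg_ne hj, sg_ne hj]
  · by_cases hj : j = i
    · subst hj
      rw [sg_self, sg_ne (Ne.symm hli), mul_one, one_mul]
    · rw [sg_ne hj, one_mul, mul_one]

theorem pr_sq {k n : ℕ} (i : Fin k) (x y : Fin n) : pr i x y * pr i x y = 1 := by
  rw [pr, ← sg_mul, Equiv.swap_mul_self, sg_one]

theorem pr_symm {k n : ℕ} (i : Fin k) (x y : Fin n) : pr i x y = pr i y x := by
  rw [pr, pr, Equiv.swap_comm]

variable {M : SymKM S P U D k m} (h : Sb M)
include h

/-- `t²` centralises `U` -/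
theorem tr_sq {i : Fin k} {x y : Fin (2 ^ m + 1)} {t : G} (ht : Tr M i x y t) {v : G} (hv : v ∈ U) :
    t * (t * v * t⁻¹) * t⁻¹ = v := by
  have h1 := h.ac_mul ht.1 ht.2 ht.2
  rw [pr_sq] at h1
  have h2 := h.comm_of_one (mul_mem ht.1 ht.1) h1 hv
  calc t * (t * v * t⁻¹) * t⁻¹ = t * t * v * (t * t)⁻¹ := by group
    _ = v := by rw [h2, mul_inv_cancel_right]

/-- `t` centralises `[t, u]` -/
theorem tr_comm_self {i : Fin k} {x y : Fin (2 ^ m + 1)} {t : G} (ht : Tr M i x y t) {u : G} (hu : u ∈ U) :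
    t * (t * u * t⁻¹ * u⁻¹) = t * u * t⁻¹ * u⁻¹ * t := by
  have h1 := tr_sq h ht hu
  have h2 := h.memV ht.1 hu
  refine mul_inv_eq_iff_eq_mul.1 ?_
  calc t * (t * u * t⁻¹ * u⁻¹) * t⁻¹ = t * (t * u * t⁻¹) * t⁻¹ * (t * u * t⁻¹)⁻¹ := by group
    _ = u * (t * u * t⁻¹)⁻¹ := by rw [h1]
    _ = u⁻¹ * (t * u * t⁻¹) := by rw [h.inv_eq h2, h.inv_eq hu]
    _ = _ := h.cm (inv_mem hu) h2

/-- `t` fixes modulo `D` a pair of points which it fixes -/
theorem e_tr_pair {i : Fin k} {x y : Fin (2 ^ m + 1)} {t : G} (ht : Tr M i x y t) {l : Fin k}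
    {a b : Fin (2 ^ m + 1)} (hab : l = i → a ≠ x ∧ a ≠ y ∧ b ≠ x ∧ b ≠ y) {v : G} (hv : v ∈ U)
    (he : M.e v = dl l a + dl l b) : M.e (t * v * t⁻¹) = M.e v := by
  rw [Sb.e_pair ht.2.1 hv he, he]
  by_cases hli : l = i
  · obtain ⟨h1, h2, h3, h4⟩ := hab hli
    subst hli
    rw [pr, sg_self, Equiv.swap_apply_of_ne_of_ne h1 h2, Equiv.swap_apply_of_ne_of_ne h3 h4]
  · rw [pr, sg_ne hli]
    rfl

/-- pairs fixed by `t` are images of elements of `C_U(t)` -/
theorem exists_pair_comm {i : Fin k} {x y : Fin (2 ^ m + 1)} {t : G} (ht : Tr M i x y t) {l : Fin k}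
    {a b : Fin (2 ^ m + 1)} (hab : l = i → a ≠ x ∧ a ≠ y ∧ b ≠ x ∧ b ≠ y) :
    ∃ v ∈ U, M.e v = dl l a + dl l b ∧ t * v = v * t := by
  by_cases hne : a = b
  · refine ⟨1, one_mem _, ?_, by rw [mul_one, one_mul]⟩
    rw [Sb.e_one (M := M), hne, add_self2]
  obtain ⟨c, hcx, hcy, hca, hcb⟩ : ∃ c, c ≠ x ∧ c ≠ y ∧ c ≠ a ∧ c ≠ b := by
    obtain ⟨p, q, hpq, h1, h2, h3, h4, h5, h6⟩ := h.exists_ne x y a
    by_cases hpb : p = b
    · exact ⟨q, h4, h5, h6, fun hh => hpq (by rw [hpb, hh])⟩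
    · exact ⟨p, h1, h2, h3, hpb⟩
  obtain ⟨u, hu, hue⟩ := Sb.exists_pair M l a c
  obtain ⟨s, hs, hs1, hs2⟩ := M.lift (pr l a b)
  have hsA : Ac M s (pr l a b) := ⟨hs1, hs2⟩
  have h1 := h.cc ht.1 hs ht.2 hsA (sg_swap_comm hab) hu
    (e_tr_pair h ht (fun hl => ⟨(hab hl).1, (hab hl).2.1, hcx, hcy⟩) hu hue)
  refine ⟨s * u * s⁻¹ * u⁻¹, mul_mem (h.memV hs hu) (inv_mem hu), ?_, h1⟩
  rw [h.e_div (h.memV hs hu) hu, Sb.e_pair hs1 hu hue, hue, pr, sg_self, Equiv.swap_apply_left,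
    Equiv.swap_apply_of_ne_of_ne hca hcb]
  have e1 : dl l b + dl l c + (dl l a + dl l c) = dl l a + dl l b + (dl l c + dl l c) := by abel
  rw [e1, add_self2, add_zero]

/-- the pair `{x, y}` itself -/
theorem exists_self_comm {i : Fin k} {x y : Fin (2 ^ m + 1)} {t : G} (ht : Tr M i x y t) :
    ∃ v ∈ U, M.e v = dl i x + dl i y ∧ t * v = v * t := by
  obtain ⟨p, q, hpq, h1, h2, -⟩ := h.exists_ne x y x
  obtain ⟨u, hu, hue⟩ := Sb.exists_pair M i x p
  refine ⟨t * u * t⁻¹ * u⁻¹, mul_mem (h.memV ht.1 hu) (inv_mem hu), ?_, tr_comm_self h ht hu⟩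
  rw [h.e_div (h.memV ht.1 hu) hu, Sb.e_pair ht.2.1 hu hue, hue, pr, sg_self, Equiv.swap_apply_left,
    Equiv.swap_apply_of_ne_of_ne h1 h2]
  have e1 : dl i y + dl i p + (dl i x + dl i p) = dl i x + dl i y + (dl i p + dl i p) := by abel
  rw [e1, add_self2, add_zero]

/-- the images in `U / D` of the elements of `C_U(t)` -/
def fx (t : G) (M : SymKM S P U D k m) : AddSubmonoid (Fin k → Fin (2 ^ m + 1) → ZMod 2) where
  carrier := {w | ∃ v ∈ U, M.e v = w ∧ t * v = v * t}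
  zero_mem' := ⟨1, one_mem _, Sb.e_one, by rw [mul_one, one_mul]⟩
  add_mem' := by
    rintro _ _ ⟨v, hv, rfl, h1⟩ ⟨w, hw, rfl, h2⟩
    exact ⟨v * w, mul_mem hv hw, M.mul v hv w hw, (show Commute t v from h1).mul_right h2⟩

/-- **`t` centralises `{v : e v i x = e v i y}`** -/
theorem comm_tr {i : Fin k} {x y : Fin (2 ^ m + 1)} {t : G} (ht : Tr M i x y t) {v : G} (hv : v ∈ U)
    (hxy : M.e v i x = M.e v i y) : t * v = v * t := by
  classical
  by_cases hne : x = y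
  · have h1 : pr i x y = 1 := by rw [hne, pr, Equiv.swap_self]; exact sg_one i
    have h2 := ht.2
    rw [h1] at h2
    exact h.comm_of_one ht.1 h2 hv
  obtain ⟨z0, -, -, hz1, hz2, -⟩ := h.exists_ne x y x
  have hz : ∀ a : ZMod 2, a = 0 ∨ a = 1 := by decide
  -- the generators
  have g1 : ∀ (l : Fin k) (a b : Fin (2 ^ m + 1)), (l = i → a ≠ x ∧ a ≠ y ∧ b ≠ x ∧ b ≠ y) →
      dl l a + dl l b ∈ fx t M := fun l a b hab => exists_pair_comm h ht hab
  have g2 : dl i x + dl i y ∈ fx t M := exists_self_comm h ht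
  -- the decomposition
  let bs : Fin k → Fin (2 ^ m + 1) := fun _ => z0
  have dec : M.e v = (∑ l, ∑ a, if (l = i ∧ (a = x ∨ a = y)) ∨ M.e v l a = 0 then 0 else dl l a + dl l z0) +
      if M.e v i x = 0 then 0 else dl i x + dl i y := by
    funext l z
    have hrow : ∀ l' : Fin k, l' ≠ l → (∑ a, if (l' = i ∧ (a = x ∨ a = y)) ∨ M.e v l' a = 0 then (0 : Fin k → Fin (2 ^ m + 1) → ZMod 2)
        else dl l' a + dl l' z0) l z = 0 := by
      intro l' hl'
      rw [Finset.sum_apply, Finset.sum_apply]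
      refine Finset.sum_eq_zero fun a _ => ?_
      split_ifs
      · rfl
      · rw [Pi.add_apply, dl_ne' (Ne.symm hl'), dl_ne' (Ne.symm hl'), add_zero]; rfl
    have hev := M.even v hv l
    rw [Pi.add_apply, Pi.add_apply, Finset.sum_apply, Finset.sum_apply,
      Finset.sum_eq_single l (fun l' _ hl' => hrow l' hl') (fun hh => absurd (Finset.mem_univ l) hh),
      Finset.sum_apply, Finset.sum_apply]
    by_cases hli : l = i
    · subst hli
      have hs : ∀ a, (if (l = l ∧ (a = x ∨ a = y)) ∨ M.e v l a = 0 then (0 : Fin k → Fin (2 ^ m + 1) → ZMod 2)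
          else dl l a + dl l z0) l z = (if a = x ∨ a = y then 0 else M.e v l a) * ((if z = a then 1 else 0) +
            if z = z0 then 1 else 0) := by
        intro a
        by_cases ha : a = x ∨ a = y
        · rw [if_pos (Or.inl ⟨rfl, ha⟩), if_pos ha, zero_mul]; rfl
        · rcases hz (M.e v l a) with h0 | h0
          · rw [if_pos (Or.inr h0), if_neg ha, h0, zero_mul]; rfl
          · rw [if_neg (by rw [h0]; rintro (⟨-, h5⟩ | h5); exacts [ha h5, one_ne_zero h5]), if_neg ha, h0, one_mul,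
              Pi.add_apply, Pi.add_apply]
            simp [dl]
      rw [Finset.sum_congr rfl fun a _ => hs a]
      have hE : ∑ a, (if a = x ∨ a = y then 0 else M.e v l a) = 0 := by
        have h1 : ∑ a, M.e v l a = ∑ a, (if a = x ∨ a = y then 0 else M.e v l a) +
            ∑ a, (if a = x ∨ a = y then M.e v l a else 0) := by
          rw [← Finset.sum_add_distrib]
          refine Finset.sum_congr rfl fun a _ => ?_
          split_ifs
          · rw [zero_add]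
          · rw [add_zero]
        have h2 : ∑ a, (if a = x ∨ a = y then M.e v l a else 0) = 0 := by
          rw [← Finset.sum_filter]
          have h3 : (Finset.univ.filter fun a : Fin (2 ^ m + 1) => a = x ∨ a = y) = {x, y} := by
            ext a
            simp
          rw [h3, Finset.sum_pair hne, hxy]
          exact CharTwo.add_self_eq_zero _
        rw [h1, h2, add_zero] at hev
        exact hev
      simp only [mul_add, Finset.sum_add_distrib, ← Finset.sum_mul, hE, zero_mul, add_zero]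
      simp only [mul_ite, mul_one, mul_zero]
      rw [Finset.sum_ite_eq Finset.univ z, if_pos (Finset.mem_univ z)]
      by_cases hzx : z = x
      · subst hzx
        rw [if_pos (Or.inl rfl), zero_add]
        rcases hz (M.e v l z) with h0 | h0
        · rw [if_pos h0, h0]; rfl
        · rw [if_neg (by rw [h0]; exact one_ne_zero), h0, Pi.add_apply, Pi.add_apply, dl_self, dl_ne l hne, add_zero]
      · by_cases hzy : z = y
        · subst hzy
          rw [if_pos (Or.inr rfl), zero_add, ← hxy]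
          rcases hz (M.e v l x) with h0 | h0
          · rw [if_pos h0, h0]; rfl
          · rw [if_neg (by rw [h0]; exact one_ne_zero), h0, Pi.add_apply, Pi.add_apply, dl_self,
              dl_ne l (Ne.symm hne), zero_add]
        · rw [if_neg (by rintro (h5 | h5); exacts [hzx h5, hzy h5])]
          split_ifs
          · rw [Pi.zero_apply, Pi.zero_apply, add_zero]
          · rw [Pi.add_apply, Pi.add_apply, dl_ne l hzx, dl_ne l hzy, add_zero, add_zero]
    · have hs : ∀ a, (if (l = i ∧ (a = x ∨ a = y)) ∨ M.e v l a = 0 then (0 : Fin k → Fin (2 ^ m + 1) → ZMod 2)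
          else dl l a + dl l z0) l z = M.e v l a * ((if z = a then 1 else 0) + if z = z0 then 1 else 0) := by
        intro a
        rcases hz (M.e v l a) with h0 | h0
        · rw [if_pos (Or.inr h0), h0, zero_mul]; rfl
        · rw [if_neg (by rw [h0]; rintro (⟨h5, -⟩ | h5); exacts [hli h5, one_ne_zero h5]), h0, one_mul,
            Pi.add_apply, Pi.add_apply]
          simp [dl]
      rw [Finset.sum_congr rfl fun a _ => hs a]
      simp only [mul_add, Finset.sum_add_distrib, ← Finset.sum_mul, hev, zero_mul, add_zero]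
      simp only [mul_ite, mul_one, mul_zero]
      rw [Finset.sum_ite_eq Finset.univ z, if_pos (Finset.mem_univ z)]
      split_ifs
      · rw [Pi.zero_apply, Pi.zero_apply, add_zero]
      · rw [Pi.add_apply, dl_ne' hli, dl_ne' hli, add_zero, Pi.zero_apply, add_zero]
  have hmem : M.e v ∈ fx t M := by
    rw [dec]
    refine add_mem (sum_mem fun l _ => sum_mem fun a _ => ?_) ?_
    · split_ifs with hc
      · exact zero_mem _
      · refine g1 l a z0 fun hl => ⟨fun h5 => hc (Or.inl ⟨hl, Or.inl h5⟩), fun h5 => hc (Or.inl ⟨hl, Or.inr h5⟩), hz1, hz2⟩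
    · split_ifs
      · exact zero_mem _
      · exact g2
  obtain ⟨v', hv', hvv, hc⟩ := hmem
  have h1 : v * v'⁻¹ ∈ D := (h.mem_D hv hv').2 hvv.symm
  have h2 : v = v * v'⁻¹ * v' := by group
  rw [h2]
  exact (show Commute t (v * v'⁻¹) from ht.2.2 _ h1).mul_right hc

/-- `[t, u]` is `1` or a `Wt` -/
theorem comm_or {i : Fin k} {x y : Fin (2 ^ m + 1)} {t : G} (ht : Tr M i x y t) {u : G} (hu : u ∈ U) :
    t * u * t⁻¹ * u⁻¹ = 1 ∨ Wt M i x y (t * u * t⁻¹ * u⁻¹) := by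
  by_cases hxy : M.e u i x = M.e u i y
  · left
    rw [comm_tr h ht hu hxy]
    group
  · right
    refine ⟨?_, t, ht, u, hu, rfl⟩
    rw [h.e_div (h.memV ht.1 hu) hu]
    funext l z
    rw [Pi.add_apply, Pi.add_apply, Sb.ac_e ht.2.1 hu l z]
    by_cases hli : l = i
    · subst hli
      rw [pr, sg_self, Equiv.swap_inv, Pi.add_apply, Pi.add_apply]
      have key : ∀ a b : ZMod 2, a ≠ b → a + b = 1 := by decide
      have hne : x ≠ y := fun h1 => hxy (by rw [h1])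
      by_cases hzx : z = x
      · subst hzx
        rw [Equiv.swap_apply_left, dl_self, dl_ne l hne, add_zero]
        exact key _ _ (Ne.symm hxy)
      · by_cases hzy : z = y
        · subst hzy
          rw [Equiv.swap_apply_right, dl_self, dl_ne l (Ne.symm hne), zero_add]
          exact key _ _ hxy
        · rw [Equiv.swap_apply_of_ne_of_ne hzx hzy, dl_ne l hzx, dl_ne l hzy, add_zero]
          exact CharTwo.add_self_eq_zero _
    · rw [pr, sg_ne hli, inv_one, Equiv.Perm.one_apply, Pi.add_apply, dl_ne' hli, dl_ne' hli]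
      exact (CharTwo.add_self_eq_zero _).trans (add_zero _).symm

theorem Wt.mem {i : Fin k} {x y : Fin (2 ^ m + 1)} {w : G} (hw : Wt M i x y w) : w ∈ U := by
  obtain ⟨-, t, ht, u, hu, rfl⟩ := hw
  exact mul_mem (h.memV ht.1 hu) (inv_mem hu)

/-- **uniqueness** -/
theorem Wt.eq {i : Fin k} {x y : Fin (2 ^ m + 1)} (hxy : x ≠ y) {w w' : G} (hw : Wt M i x y w)
    (hw' : Wt M i x y w') : w = w' := by
  obtain ⟨he, t, ht, u, hu, rfl⟩ := hw
  obtain ⟨he', t', ht', u', hu', rfl⟩ := hw'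
  have hne : dl i x + dl i y ≠ (0 : Fin k → Fin (2 ^ m + 1) → ZMod 2) := by
    intro h1
    have h2 := congrFun (congrFun h1 i) x
    rw [Pi.add_apply, Pi.add_apply, dl_self, dl_ne i hxy, add_zero] at h2
    exact one_ne_zero h2
  have hval : ∀ t u : G, Tr M i x y t → u ∈ U → M.e (t * u * t⁻¹ * u⁻¹) = dl i x + dl i y →
      M.e u i x ≠ M.e u i y := by
    intro t u ht hu he h1
    rw [comm_tr h ht hu h1] at he
    have e1 : u * t * t⁻¹ * u⁻¹ = 1 := by group
    rw [e1, Sb.e_one (M := M)] at he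
    exact hne he.symm
  have h1 := hval t u ht hu he
  have h2 := hval t' u' ht' hu' he'
  have h3 : t' * u' * t'⁻¹ = t * u' * t⁻¹ := h.same ht'.1 ht.1 ht'.2 ht.2 hu'
  rw [h3]
  have key : ∀ a b c d : ZMod 2, a ≠ b → c ≠ d → a + c = b + d := by decide
  have h4 : M.e (u * u'⁻¹) i x = M.e (u * u'⁻¹) i y := by
    rw [h.e_div hu hu']
    exact key _ _ _ _ h1 h2
  have h5 := comm_tr h ht (mul_mem hu (inv_mem hu')) h4
  have m1 := h.memV ht.1 hu'
  calc t * u * t⁻¹ * u⁻¹ = (t * (u * u'⁻¹)) * u' * t⁻¹ * u⁻¹ := by group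
    _ = (u * u'⁻¹) * (t * u' * t⁻¹) * u⁻¹ := by rw [h5]; group
    _ = (t * u' * t⁻¹) * (u * u'⁻¹) * u⁻¹ := by rw [h.cm (mul_mem hu (inv_mem hu')) m1]
    _ = t * u' * t⁻¹ * (u * (u'⁻¹ * u⁻¹)) := by group
    _ = t * u' * t⁻¹ * (u * (u⁻¹ * u'⁻¹)) := by rw [h.cm (inv_mem hu') (inv_mem hu)]
    _ = _ := by group

/-- the conjugate of a transposition -/
theorem Tr.conj {i : Fin k} {x y : Fin (2 ^ m + 1)} {g t : G} (ht : Tr M i x y t) (hg : g ∈ P)
    {σ : Equiv.Perm (Fin k)} {τ : Fin k → Equiv.Perm (Fin (2 ^ m + 1))} (hστ : ActsSym M.e U g σ τ) :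
    Tr M (σ i) (τ i x) (τ i y) (g * t * g⁻¹) := by
  refine ⟨mul_mem (mul_mem hg ht.1) (inv_mem hg), fun v hv l z => ?_, fun d hd => ?_⟩
  · obtain ⟨j, rfl⟩ := σ.surjective l
    obtain ⟨z', rfl⟩ := (τ j).surjective z
    have hu : g⁻¹ * v * g ∈ U := by
      have := h.memV (inv_mem hg) hv
      rwa [inv_inv] at this
    have e1 : g * t * g⁻¹ * v * (g * t * g⁻¹)⁻¹ = g * (t * (g⁻¹ * v * g) * t⁻¹) * g⁻¹ := by group
    have e2 : g * (g⁻¹ * v * g) * g⁻¹ = v := by group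
    have h1 := hστ _ hu j z'
    rw [e2] at h1
    rw [e1, Equiv.Perm.one_apply, h1]
    have h2 : pr (σ i) (τ i x) (τ i y) (σ j) (τ j z') = τ j (pr i x y j z') := by
      by_cases hji : j = i
      · subst hji
        rw [pr, pr, sg_self, sg_self]
        rw [Equiv.swap_apply_apply, Equiv.Perm.mul_apply, Equiv.Perm.mul_apply, ← Equiv.Perm.mul_apply (τ j)⁻¹, inv_mul_cancel, Equiv.Perm.one_apply]
      · rw [pr, pr, sg_ne hji, sg_ne (fun h3 => hji (σ.injective h3))]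
        rfl
    rw [h2, hστ _ (h.memV ht.1 hu) j _]
    exact ht.2.1 _ hu j z'
  · have hd' : g⁻¹ * d * g ∈ D := by
      have := conj_mem h.DP' (inv_mem hg) hd
      rwa [inv_inv] at this
    have h5 := ht.2.2 _ hd'
    calc g * t * g⁻¹ * d = g * (t * (g⁻¹ * d * g)) * g⁻¹ := by group
      _ = g * (g⁻¹ * d * g * t) * g⁻¹ := by rw [h5]
      _ = d * (g * t * g⁻¹) := by group

/-- the conjugate of a pair -/
theorem e_pair' {g : G} {σ : Equiv.Perm (Fin k)} {τ : Fin k → Equiv.Perm (Fin (2 ^ m + 1))}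
    (hστ : ActsSym M.e U g σ τ) {v : G} (hv : v ∈ U) {i : Fin k} {a b : Fin (2 ^ m + 1)}
    (he : M.e v = dl i a + dl i b) : M.e (g * v * g⁻¹) = dl (σ i) (τ i a) + dl (σ i) (τ i b) := by
  funext l z
  obtain ⟨j, rfl⟩ := σ.surjective l
  obtain ⟨z', rfl⟩ := (τ j).surjective z
  rw [hστ v hv j z', he, Pi.add_apply, Pi.add_apply, Pi.add_apply, Pi.add_apply]
  by_cases hj : j = i
  · subst hj
    simp [dl]
  · have hj' : σ j ≠ σ i := fun h1 => hj (σ.injective h1)
    rw [dl_ne' hj, dl_ne' hj, dl_ne' hj', dl_ne' hj']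
    rfl

theorem Wt.conj {i : Fin k} {x y : Fin (2 ^ m + 1)} {g w : G} (hw : Wt M i x y w) (hg : g ∈ P)
    {σ : Equiv.Perm (Fin k)} {τ : Fin k → Equiv.Perm (Fin (2 ^ m + 1))} (hστ : ActsSym M.e U g σ τ) :
    Wt M (σ i) (τ i x) (τ i y) (g * w * g⁻¹) := by
  refine ⟨e_pair' h hστ (Wt.mem h hw) hw.1, ?_⟩
  obtain ⟨-, t, ht, u, hu, rfl⟩ := hw
  exact ⟨_, Tr.conj h ht hg hστ, _, h.memV hg hu, by group⟩

/-- the subgroup generated by all `Wt` -/
def wc (M : SymKM S P U D k m) : Subgroup G := closure {w | ∃ i x y, x ≠ y ∧ Wt M i x y w}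

theorem wc_le : wc M ≤ U := by
  rw [wc, closure_le]
  rintro w ⟨i, x, y, -, hw⟩
  exact Wt.mem h hw

theorem conj_wc {g w : G} (hg : g ∈ P) (hw : w ∈ wc M) : g * w * g⁻¹ ∈ wc M := by
  obtain ⟨σ, τ, hστ⟩ := M.perm g hg
  have hle : wc M ≤ (wc M).comap (MulAut.conj g).toMonoidHom := by
    rw [wc, closure_le]
    rintro w ⟨i, x, y, hxy, hw⟩
    exact subset_closure ⟨σ i, τ i x, τ i y, fun h1 => hxy ((τ i).injective h1), Wt.conj h hw hg hστ⟩
  exact hle hw

/-- `[h, u] ∈ wc` for all lifts `h` -/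
theorem lift_comm {τ : Fin k → Equiv.Perm (Fin (2 ^ m + 1))} {g : G} (hg : g ∈ P) (hA : Ac M g τ) {u : G}
    (hu : u ∈ U) : g * u * g⁻¹ * u⁻¹ ∈ wc M := by
  classical
  -- the good families
  let Q : (Fin k → Equiv.Perm (Fin (2 ^ m + 1))) → Prop := fun τ => ∀ g ∈ P, Ac M g τ → ∀ u ∈ U, g * u * g⁻¹ * u⁻¹ ∈ wc M
  have q1 : Q 1 := by
    intro g hg hA u hu
    rw [h.comm_of_one hg hA hu, mul_inv_cancel_right, mul_inv_cancel]
    exact one_mem _
  have qmul : ∀ τ τ', Q τ → Q τ' → Q (τ * τ') := by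
    intro τ τ' h1 h2 g hg hA u hu
    obtain ⟨s, hs, hs1, hs2⟩ := M.lift τ
    have hsA : Ac M s τ := ⟨hs1, hs2⟩
    have h3 := h.ac_mul hg (h.ac_inv hs hsA) hA
    rw [inv_mul_cancel_left] at h3
    have hsg : s⁻¹ * g ∈ P := mul_mem (inv_mem hs) hg
    have h4 := h2 _ hsg h3 u hu
    have h5 := h1 s hs hsA u hu
    have e : g * u * g⁻¹ * u⁻¹ = s * (s⁻¹ * g * u * (s⁻¹ * g)⁻¹ * u⁻¹) * s⁻¹ * (s * u * s⁻¹ * u⁻¹) := by group
    rw [e]
    exact mul_mem (conj_wc h hs h4) h5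
  have qsw : ∀ i x y, x ≠ y → Q (sg i (Equiv.swap x y)) := by
    intro i x y hxy g hg hA u hu
    rcases comm_or h (i := i) (x := x) (y := y) ⟨hg, hA⟩ hu with h1 | h1
    · rw [h1]
      exact one_mem _
    · exact subset_closure ⟨i, x, y, hxy, h1⟩
  have qsg : ∀ i (π : Equiv.Perm (Fin (2 ^ m + 1))), Q (sg i π) := by
    intro i π
    induction π using Equiv.Perm.swap_induction_on with
    | one => rw [sg_one]; exact q1
    | swap_mul f x y hxy ih => rw [sg_mul]; exact qmul _ _ (qsw i x y hxy) ih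
  have key : ∀ s : Finset (Fin k), ∀ τ : Fin k → Equiv.Perm (Fin (2 ^ m + 1)), (∀ l, l ∉ s → τ l = 1) → Q τ := by
    intro s
    induction s using Finset.induction_on with
    | empty =>
      intro τ hτ
      have : τ = 1 := funext fun l => hτ l (Finset.notMem_empty l)
      rw [this]
      exact q1
    | insert a s has ih =>
      intro τ hτ
      have h1 : τ = sg a (τ a) * ((sg a (τ a))⁻¹ * τ) := by rw [mul_inv_cancel_left]
      rw [h1]
      refine qmul _ _ (qsg a (τ a)) (ih _ fun l hl => ?_)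
      rw [Pi.mul_apply, Pi.inv_apply]
      by_cases hla : l = a
      · rw [hla, sg_self, inv_mul_cancel]
      · rw [sg_ne hla, hτ l (fun h3 => (Finset.mem_insert.1 h3).elim hla hl), inv_one, one_mul]
  exact key Finset.univ τ (fun l hl => absurd (Finset.mem_univ l) hl) g hg hA u hu

/-- `U = ⟨Wt⟩ Ω₁(Z(S))`, in the form needed -/
theorem exists_wt {Z E : Subgroup G} (hZU : Z ≤ U) (hZS : ∀ z ∈ Z, ∀ s ∈ S, s * z = z * s)
    (hgen : ∀ K : Subgroup G, Z ≤ K → P ≤ normalizer (K : Set G) → U ≤ K) (hZE : Z ≤ E) (hUE : ¬ U ≤ E) :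
    ∃ i y w, y ≠ 0 ∧ Wt M i 0 y w ∧ w ∉ E := by
  classical
  by_contra hall
  push Not at hall
  have h0 : ∀ i y w, y ≠ 0 → Wt M i 0 y w → w ∈ E := hall
  -- all `Wt` are in `E`
  have h1 : wc M ≤ E := by
    rw [wc, closure_le]
    rintro w ⟨i, x, y, hxy, hw⟩
    by_cases hx : x = 0
    · subst hx
      exact h0 i y w (Ne.symm hxy) hw
    by_cases hy : y = 0
    · subst hy
      refine h0 i x w hx ⟨hw.1.trans (add_comm _ _), ?_⟩
      obtain ⟨-, t, ht, u, hu, rfl⟩ := hw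
      exact ⟨t, ⟨ht.1, by rw [pr_symm]; exact ht.2⟩, u, hu, rfl⟩
    -- `w_{xy} = w_{0x} w_{0y}`
    obtain ⟨t, ht, ht1, ht2⟩ := M.lift (pr i 0 x)
    have htT : Tr M i 0 x t := ⟨ht, ht1, ht2⟩
    obtain ⟨s, hs, hs1, hs2⟩ := M.lift (pr i 0 y)
    obtain ⟨p, q, -, hp1, hp2, -⟩ := h.exists_ne 0 y x
    obtain ⟨u, hu, hue⟩ := Sb.exists_pair M i 0 p
    have hsT : Tr M i 0 y s := ⟨hs, hs1, hs2⟩
    have hw0 : Wt M i 0 y (s * u * s⁻¹ * u⁻¹) := by
      refine ⟨?_, s, hsT, u, hu, rfl⟩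
      rw [h.e_div (h.memV hs hu) hu, Sb.e_pair hs1 hu hue, hue, pr, sg_self, Equiv.swap_apply_left,
        Equiv.swap_apply_of_ne_of_ne hp1 hp2]
      have e1 : dl i y + dl i p + (dl i 0 + dl i p) = dl i 0 + dl i y + (dl i p + dl i p) := by abel
      rw [e1, add_self2, add_zero]
    set w0 := s * u * s⁻¹ * u⁻¹ with hw0d
    have hwU := Wt.mem h hw0
    have h2 := Wt.conj h hw0 ht (σ := 1) ht1
    rw [Equiv.Perm.one_apply, pr, sg_self, Equiv.swap_apply_left, Equiv.swap_apply_of_ne_of_ne hy (Ne.symm hxy)] at h2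
    have h3 : w = t * w0 * t⁻¹ := Wt.eq h hxy hw h2
    have h4 : Wt M i 0 x (t * w0 * t⁻¹ * w0⁻¹) := by
      refine ⟨?_, t, htT, w0, hwU, rfl⟩
      rw [h.e_div (h.memV ht hwU) hwU, h2.1, hw0.1]
      have e1 : dl i x + dl i y + (dl i 0 + dl i y) = dl i 0 + dl i x + (dl i y + dl i y) := by abel
      rw [e1, add_self2, add_zero]
    have h5 : w = t * w0 * t⁻¹ * w0⁻¹ * w0 := by rw [inv_mul_cancel_right, h3]
    rw [SetLike.mem_coe, h5]
    exact mul_mem (h0 i x _ hx h4) (h0 i y _ hy hw0)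
  refine hUE ((hgen (wc M ⊔ Z) le_sup_right ?_).trans (sup_le h1 hZE))
  set Y : Subgroup G := wc M ⊔ Z with hY
  have crit : ∀ g ∈ P, (∀ z ∈ Z, g * z * g⁻¹ ∈ Y) → (∀ z ∈ Z, g⁻¹ * z * g ∈ Y) → g ∈ normalizer (Y : Set G) := by
    have one : ∀ g ∈ P, (∀ z ∈ Z, g * z * g⁻¹ ∈ Y) → ∀ y ∈ Y, g * y * g⁻¹ ∈ Y := by
      intro g hg hz
      have hle : Y ≤ Y.comap (MulAut.conj g).toMonoidHom :=
        sup_le (fun y hy => (le_sup_left : _ ≤ Y) (conj_wc h hg hy)) fun z hz' => hz z hz'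
      exact fun y hy => hle hy
    intro g hg h1 h2
    refine mem_normalizer_iff.2 fun y => ⟨one g hg h1 y, fun hy => ?_⟩
    have h3 := one g⁻¹ (inv_mem hg) (fun z hz => by rw [inv_inv]; exact h2 z hz) _ hy
    have e : g⁻¹ * (g * y * g⁻¹) * g⁻¹⁻¹ = y := by group
    rwa [e] at h3
  refine M.gen _ ?_ ?_
  · intro s hs
    refine crit s (h.SP' hs) (fun z hz => ?_) fun z hz => ?_
    · rw [hZS z hz s hs, mul_inv_cancel_right]
      exact (le_sup_right : _ ≤ Y) hz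
    · have h1 := hZS z hz s⁻¹ (inv_mem hs)
      rw [h1, inv_mul_cancel_right]
      exact (le_sup_right : _ ≤ Y) hz
  · intro g hg τ hτ hd
    have hA : Ac M g τ := ⟨hτ, hd⟩
    have one : ∀ g ∈ P, ∀ τ, Ac M g τ → ∀ z ∈ Z, g * z * g⁻¹ ∈ Y := by
      intro g hg τ hA z hz
      have h1 := lift_comm h hg hA (hZU hz)
      have e : g * z * g⁻¹ = g * z * g⁻¹ * z⁻¹ * z := by group
      rw [e]
      exact mul_mem ((le_sup_left : _ ≤ Y) h1) ((le_sup_right : _ ≤ Y) hz)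
    refine crit g hg (one g hg τ hA) fun z hz => ?_
    have h1 := one g⁻¹ (inv_mem hg) _ (h.ac_inv hg hA) z hz
    rwa [inv_inv] at h1

/-- a coordinate `z ≠ 0` of a pair `{0, y}` -/
theorem pt {i l : Fin k} {y z : Fin (2 ^ m + 1)} (hz : z ≠ 0) (h1 : (dl i 0 + dl i y : Fin k → Fin (2 ^ m + 1) → ZMod 2) l z = 1) : l = i ∧ z = y := by
  rw [Pi.add_apply, Pi.add_apply, dl_ne i hz, zero_add] at h1
  by_contra hc
  unfold dl at h1
  rw [if_neg hc] at h1
  exact zero_ne_one h1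

theorem pt' (i l : Fin k) (y z : Fin (2 ^ m + 1)) (hz : z ≠ 0) :
    (dl i 0 + dl i y : Fin k → Fin (2 ^ m + 1) → ZMod 2) l z = 0 ∨ (dl i 0 + dl i y : Fin k → Fin (2 ^ m + 1) → ZMod 2) l z = 1 := by
  rw [Pi.add_apply, Pi.add_apply, dl_ne i hz, zero_add]
  unfold dl
  split_ifs
  · exact Or.inr rfl
  · exact Or.inl rfl

/-- **(T2)** with a radical -/
theorem le_of_qb {B Z E : Subgroup G} (q : QB S U B E) (hZU : Z ≤ U) (hZS : ∀ z ∈ Z, ∀ s ∈ S, s * z = z * s)
    (hgen : ∀ K : Subgroup G, Z ≤ K → P ≤ normalizer (K : Set G) → U ≤ K) (hZE : Z ≤ E) : U ≤ E := by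
  by_contra hUE
  obtain ⟨i, y, w, hy, hw, hwE⟩ := exists_wt h hZU hZS hgen hZE hUE
  have hwU := Wt.mem h hw
  refine q.t1 w hwU hwE fun b hb c hc hbw hcw => ?_
  have hBP : ∀ b ∈ B, b ∈ P := fun b hb => h.SP' (q.BS hb)
  -- the images
  have im : ∀ b ∈ B, ∀ i y w, y ≠ 0 → Wt M i 0 y w → ∃ j y', y' ≠ 0 ∧ Wt M j 0 y' (b * w * b⁻¹) := by
    intro b hb i y w hy hw
    obtain ⟨σ, τ, hστ⟩ := M.perm b (hBP b hb)
    have h0 := M.fix0 b (q.BS hb) σ τ hστ
    have h1 := Wt.conj h hw (hBP b hb) hστ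
    rw [h0 i] at h1
    exact ⟨σ i, τ i y, fun hz => hy ((τ i).injective (hz.trans (h0 i).symm)), h1⟩
  obtain ⟨j, y', hy', hj⟩ := im b hb i y w hy hw
  obtain ⟨l, z, hz, hl⟩ := im c hc i y w hy hw
  obtain ⟨l', z', hz', hl'⟩ := im c hc j y' _ hy' hj
  have hbU := h.memV (hBP b hb) hwU
  have hcU := h.memV (hBP c hc) hwU
  have hcbU := h.memV (hBP c hc) hbU
  have h1 := q.quad w hwU b hb c hc
  rw [h.inv_eq hwU] at h1
  have h2 : c * (b * w * b⁻¹) * c⁻¹ * (c * w * c⁻¹) = b * w * b⁻¹ * w := by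
    calc c * (b * w * b⁻¹) * c⁻¹ * (c * w * c⁻¹) = c * (b * w * b⁻¹ * w) * c⁻¹ := by group
      _ = b * w * b⁻¹ * w := by rw [h1, mul_inv_cancel_right]
  have h3 := congrArg M.e h2
  rw [M.mul _ hcbU _ hcU, M.mul _ hbU _ hwU, hl.1, hl'.1, hw.1, hj.1] at h3
  have h4 : (dl l' 0 + dl l' z' : Fin k → Fin (2 ^ m + 1) → ZMod 2) l z + (dl l 0 + dl l z : Fin k → Fin (2 ^ m + 1) → ZMod 2) l z =
      (dl j 0 + dl j y' : Fin k → Fin (2 ^ m + 1) → ZMod 2) l z + (dl i 0 + dl i y : Fin k → Fin (2 ^ m + 1) → ZMod 2) l z := congrFun (congrFun h3 l) z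
  have hne1 : (dl i 0 + dl i y : Fin k → Fin (2 ^ m + 1) → ZMod 2) l z = 0 := by
    rcases pt' h i l y z hz with h5 | h5
    · exact h5
    · obtain ⟨e1, e2⟩ := pt h hz h5
      subst e1
      subst e2
      exact absurd (Wt.eq h (Ne.symm hz) hl hw) hcw
  have hne2 : (dl l' 0 + dl l' z' : Fin k → Fin (2 ^ m + 1) → ZMod 2) l z = 0 := by
    rcases pt' h l' l z' z hz with h5 | h5
    · exact h5
    · obtain ⟨e1, e2⟩ := pt h hz h5
      subst e1
      subst e2
      have h6 := Wt.eq h (Ne.symm hz) hl hl'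
      refine absurd ?_ hbw
      have h7 : w = b * w * b⁻¹ := mul_left_cancel (mul_right_cancel h6)
      exact h7.symm
  have hself : (dl l 0 + dl l z : Fin k → Fin (2 ^ m + 1) → ZMod 2) l z = 1 := by
    rw [Pi.add_apply, Pi.add_apply, dl_ne l hz, dl_self, zero_add]
  rw [hself, hne1, hne2, add_zero, zero_add] at h4
  obtain ⟨e1, e2⟩ := pt h hz h4.symm
  subst e1
  subst e2
  exact Wt.eq h (Ne.symm hz) hj hl

end Cfsg.Agent.Omega.NO3S.KeyRad.Sym
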