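import Cfsg.Agent.Mrg.Omega.NO3S.KeyRad.Count
import Cfsg.Agent.Mrg.Omega.NO3S.KeyRad.Blk
import Cfsg.Agent.Mrg.Omega.NO3S.KeyRad.Sym
import Cfsg.Agent.Mrg.Omega.NO3S.KeyRad.Star


/-!
# The KEY for bad lines with a radical (#21048 (K0), (K1))

`BH V F B` : `F ≤ B ≤ W`, `B` abelian, normalised by `C_G(F)`, `I = V ∩ B`, `i = |I : F|`, `a = |V : E|`; `B ≤ S`;
`U = V_P ≤ V` a bad line (`U ≰ E`), `ConclM S P` (natural^k or `S_n^k` modulo ANY radical `C_V(O²(P))`).

* `star_blk` : `R^ ≤ [M, g] [M, g']`, `M = [U, L_j]`;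
* `main` : `i < a²`, or `i ≤ a`, or `i = 4`, `a = 2`, `P` natural over a field with `≥ 4` elements (`NatBig`);
* `key` : `[r, W] = [E, b]` for all `r ∈ I - F`, `b ∈ B - N`; or the third case.
-/

set_option autoImplicit false
set_option linter.unusedSectionVars false

namespace Cfsg.Agent.Omega.NO3S.KeyRad

open Subgroup Cfsg Cfsg.Agent.ZN Cfsg.Agent.ZN.ChoiceBase Cfsg.Agent.Omega.MinPar
open Cfsg.Agent.Omega.NOne.Flat (Hyp EE WW NN BadX Cos card_mul_relIndex')
open Cfsg.Agent.Omega.NOne.NearFF (c)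
open Cfsg.Agent.Omega.FFThm Cfsg.Agent.Omega.NatPair Cfsg.Agent.Lib.SL2Mat
open Cfsg.Agent.Omega.NO3S.ThmB
open Cfsg.Agent.Omega.NOThreeL.Low.Nat (QB)
open Cfsg.Agent.Omega.NOThreeL.Low.Key (BH)
open Cfsg.Agent.Omega.FrameFF (cv)

universe u

section star

variable {G : Type u} [Group G] [Finite G] {F : Type} [Field F] [Finite F] [CharP F 2] {S P U D : Subgroup G} {k : ℕ}
  {M : NatKM F S P U D k} (h : Nb M)
include h

/-- **(★)** -/
theorem star_blk (hF : 2 < Nat.card F) {j : Fin k} {b b' : F} (hb : b ≠ 0) (hb' : b' ≠ 0) (hne : b ≠ b')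
    {g g' : G} (hg : g ∈ P) (hgA : ActsSL M.e U D g (sg j (up b))) (hg' : g' ∈ P)
    (hgA' : ActsSL M.e U D g' (sg j (up b'))) {r : G} (hr : r ∈ blk M j) (hr1 : M.e r j 1 = 0) :
    ∃ m ∈ blk M j, ∃ m' ∈ blk M j, r = g * m * g⁻¹ * m⁻¹ * (g' * m' * g'⁻¹ * m'⁻¹) := by
  classical
  have hXU := blk_le h j
  let _ : CommGroup (blk M j) :=
    { (inferInstance : Group (blk M j)) with mul_comm := fun a b => Subtype.ext (h.cm (hXU a.2) (hXU b.2)) }
  choose lf hlfP hlfA using fun A : Matrix.SpecialLinearGroup (Fin 2) F => M.lift (sg j A)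
  have hcX : ∀ A, ∀ m ∈ blk M j, lf A * m * (lf A)⁻¹ ∈ blk M j := by
    intro A m hm
    have e : lf A * m * (lf A)⁻¹ = lf A * m * (lf A)⁻¹ * m⁻¹ * m := by group
    rw [e]
    exact mul_mem (mem_blk (hlfP A) (hlfA A) (hXU hm)) hm
  let ρ0 : Matrix.SpecialLinearGroup (Fin 2) F → (blk M j →* blk M j) := fun A =>
    { toFun := fun m => ⟨lf A * m * (lf A)⁻¹, hcX A m m.2⟩
      map_one' := Subtype.ext (by simp)
      map_mul' := fun x y => Subtype.ext (by
        change lf A * ((x : G) * y) * (lf A)⁻¹ = lf A * x * (lf A)⁻¹ * (lf A * y * (lf A)⁻¹)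
        group) }
  let ρ : Matrix.SpecialLinearGroup (Fin 2) F → (Additive (blk M j) →+ Additive (blk M j)) := fun A =>
    MonoidHom.toAdditive (ρ0 A)
  have hρv : ∀ A (m : Additive (blk M j)), ((Additive.toMul (ρ A m) : blk M j) : G) =
      lf A * ((Additive.toMul m : blk M j) : G) * (lf A)⁻¹ := fun A m => rfl
  have hext : ∀ {x y : Additive (blk M j)},
      ((Additive.toMul x : blk M j) : G) = ((Additive.toMul y : blk M j) : G) → x = y := by
    intro x y hxy
    exact Additive.toMul.injective (Subtype.ext hxy)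
  have hsub : ∀ x y : Additive (blk M j), ((Additive.toMul (x - y) : blk M j) : G) =
      ((Additive.toMul x : blk M j) : G) * ((Additive.toMul y : blk M j) : G)⁻¹ := by
    intro x y
    change ((Additive.toMul x : blk M j) : G) / ((Additive.toMul y : blk M j) : G) = _
    exact div_eq_mul_inv _ _
  let π : Additive (blk M j) →+ (Fin 2 → F) :=
    { toFun := fun m => M.e ((Additive.toMul m : blk M j) : G) j
      map_zero' := by
        change M.e 1 j = 0
        rw [Nb.e_one (M := M)]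
        rfl
      map_add' := fun x y => by
        change M.e ((Additive.toMul x : blk M j) * (Additive.toMul y : blk M j) : G) j = _
        rw [M.mul _ (hXU (Additive.toMul x).2) _ (hXU (Additive.toMul y).2), Pi.add_apply] }
  have hπv : ∀ m : Additive (blk M j), π m = M.e ((Additive.toMul m : blk M j) : G) j := fun m => rfl
  obtain ⟨m, m', hmm⟩ := star hF (M := Additive (blk M j)) (fun m => hext (by
      change ((Additive.toMul m : blk M j) : G) * ((Additive.toMul m : blk M j) : G) = 1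
      exact h.sq (hXU (Additive.toMul m).2))) ρ (fun A B m => hext (by
      rw [hρv, hρv, hρv]
      have h1 := h.acts_mul (hlfP B) (hlfA A) (hlfA B)
      rw [← sg_mul] at h1
      rw [h.same (hlfP (A * B)) (mul_mem (hlfP A) (hlfP B)) (hlfA (A * B)) h1 (hXU (Additive.toMul m).2)]
      group)) (fun m => hext (by
      rw [hρv]
      have h1 := hlfA 1
      rw [sg_one] at h1
      rw [h.comm_of_one (hlfP 1) h1 (hXU (Additive.toMul m).2), mul_inv_cancel_right])) π (fun A m => by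
      rw [hπv, hρv, (hlfA A).1 _ (hXU (Additive.toMul m).2), sg_self, hπv]) (fun A m hm => hext (by
      rw [hρv]
      have h1 : ((Additive.toMul m : blk M j) : G) ∈ D := by
        rw [← M.ker _ (hXU (Additive.toMul m).2)]
        funext l
        by_cases hl : l = j
        · rw [hl, ← hπv, hm]; rfl
        · exact e_blk h hl (Additive.toMul m).2
      rw [(hlfA A).2 _ h1, mul_inv_cancel_right])) (fun x => by
      obtain ⟨w, hw, hwx⟩ := exists_blk_e h j x
      exact ⟨Additive.ofMul ⟨w, hw⟩, hwx⟩) (fun N hN => by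
      -- `M = [M, L]`
      let N' : Subgroup G := (AddSubgroup.toSubgroup' N).map (blk M j).subtype
      have h1 : blk M j ≤ N' := by
        conv_lhs => rw [blk]
        rw [closure_le]
        rintro _ ⟨c, hc, A, hA, v, hv, rfl⟩
        obtain ⟨w, hw, hww⟩ := exists_blk_comm h hc hA hv
        rw [hww, h.same hc (hlfP A) hA (hlfA A) (hXU hw)]
        let x : Additive (blk M j) := Additive.ofMul ⟨w, hw⟩
        have h3 : ((Additive.toMul (ρ A x - x) : blk M j) : G) = lf A * w * (lf A)⁻¹ * w⁻¹ := hsub _ _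
        exact ⟨Additive.toMul (ρ A x - x), hN A x, h3⟩
      rw [eq_top_iff]
      intro x _
      obtain ⟨y, hy, hyx⟩ := h1 (Additive.toMul x).2
      have h2 : y = Additive.toMul x := Subtype.ext hyx
      rw [h2] at hy
      exact hy) hb hb' hne (r := Additive.ofMul ⟨r, hr⟩) hr1
  refine ⟨_, (Additive.toMul m).2, _, (Additive.toMul m').2, ?_⟩
  have h1 := congrArg (fun z => ((Additive.toMul z : blk M j) : G)) hmm
  have h2 : r = lf (up b) * ((Additive.toMul m : blk M j) : G) * (lf (up b))⁻¹ *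
      ((Additive.toMul m : blk M j) : G)⁻¹ * (lf (up b') * ((Additive.toMul m' : blk M j) : G) * (lf (up b'))⁻¹ *
      ((Additive.toMul m' : blk M j) : G)⁻¹) := by
    refine h1.trans ?_
    change ((Additive.toMul (ρ (up b) m - m) : blk M j) : G) *
      ((Additive.toMul (ρ (up b') m' - m') : blk M j) : G) = _
    rw [hsub, hsub, hρv, hρv]
  rw [h.same hg (hlfP _) hgA (hlfA _) (hXU (Additive.toMul m).2),
    h.same hg' (hlfP _) hgA' (hlfA _) (hXU (Additive.toMul m').2)]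
  exact h2

end star

section bh

variable {G : Type u} [Group G] [Finite G] {S P V F B : Subgroup G}
  (bh : BH V F B)
include bh

theorem two_le : 2 ≤ (EE V F).relIndex V := by
  have ha0 : (EE V F).relIndex V ≠ 0 := index_ne_zero_of_finite
  have ha1 : (EE V F).relIndex V ≠ 1 := by
    obtain ⟨w, hw, hwE⟩ := bh.toHyp.exists_not_mem
    exact fun h1 => hwE (relIndex_eq_one.1 h1 hw)
  omega

/-- an element of `V` centralised by `B` is in `E` -/
theorem mem_E_of_comm (hI : ¬ V ⊓ B ≤ F) {z : G} (hz : z ∈ V) (hzB : ∀ b ∈ B, b * z = z * b) : z ∈ EE V F := by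
  by_contra hzE
  refine hI fun y hy => ?_
  obtain ⟨b, hb, hby⟩ := bh.surj hz hzE hy
  have h1 : c z b = 1 := by
    rw [c, ← hzB b hb]
    group
  rwa [h1, inv_one, one_mul] at hby

/-- the input of P7 -/
theorem qb' {U : Subgroup G} (hsq : ∀ b ∈ B, b ^ 2 = 1) (hBS : B ≤ S) (hUV : U ≤ V) (h2 : 2 < F.relIndex (V ⊓ B)) :
    QB S U B (EE V F) where
  BS := hBS
  ab := fun _ hb _ hc => bh.B_comm hb hc
  sq := fun b hb => by rw [← pow_two]; exact hsq b hb
  quad := fun v hv b hb c' hc => by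
    have h1 := bh.quad (hUV hv) hb hc
    have h2 : b * v * b⁻¹ * v⁻¹ = (c v b)⁻¹ := by rw [c]; group
    rw [h2]
    calc c' * (c v b)⁻¹ = (c v b)⁻¹ * (c v b * c') * (c v b)⁻¹ := by group
      _ = (c v b)⁻¹ * (c' * c v b) * (c v b)⁻¹ := by rw [h1]
      _ = (c v b)⁻¹ * c' := by group
  t1 := fun w hw hwE hall => absurd h2 (not_lt.2 (bh.relIndex_le_two (hUV hw) hwE hall))

/-- natural lines -/
theorem nat_main {U D : Subgroup G} {K : Type} [Field K] [Finite K] [CharP K 2] {k : ℕ} {M : NatKM K S P U D k}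
    (h : Nb M) (q : QB S U B (EE V F)) (hUV : U ≤ V) {j : Fin k} (hj : ¬ blk M j ≤ EE V F) :
    2 < Nat.card K ∧ (F.relIndex (V ⊓ B) < (EE V F).relIndex V ^ 2 ∨ F.relIndex (V ⊓ B) ≤ (EE V F).relIndex V ∨
      (F.relIndex (V ⊓ B) = 4 ∧ (EE V F).relIndex V = 2)) := by
  obtain ⟨w, hw, hwE⟩ := SetLike.not_le_iff_exists.1 hj
  have hXU := blk_le h j
  have hBP : ∀ b ∈ B, b ∈ P := fun b hb => BP h q hb
  -- every `b ∈ B` acts as `up β`
  have hlift : ∀ b ∈ B, ∃ β : K, ∃ g ∈ P, ActsSL M.e U D g (sg j (up β)) ∧ ∀ m ∈ blk M j, b * m * b⁻¹ = g * m * g⁻¹ := by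
    intro b hb
    obtain ⟨β, hβ⟩ := exists_up h q hj hb
    obtain ⟨g, hg, hgA⟩ := M.lift (sg j (up β))
    refine ⟨β, g, hg, hgA, fun m hm => eq_lift h q (hBP b hb) hg hβ (fun v hv => ?_) hm⟩
    rw [hgA.1 v hv j, sg_self]
  choose! β g hg hgA hβ using hlift
  -- `β b = β b'` implies the same action on the block
  have hsame : ∀ b ∈ B, ∀ b' ∈ B, β b = β b' → ∀ m ∈ blk M j, b * m * b⁻¹ = b' * m * b'⁻¹ := by
    intro b hb b' hb' hbb m hm
    rw [hβ b hb m hm, hβ b' hb' m hm]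
    have h1 := hgA b hb
    rw [hbb] at h1
    exact h.same (hg b hb) (hg b' hb') h1 (hgA b' hb') (hXU hm)
  have hone : ∀ b ∈ B, β b = 0 → ∀ m ∈ blk M j, b * m * b⁻¹ = m := by
    intro b hb hb0 m hm
    rw [hβ b hb m hm]
    have h1 := hgA b hb
    rw [hb0, up_zero, sg_one] at h1
    rw [h.comm_of_one (hg b hb) h1 (hXU hm), mul_inv_cancel_right]
  by_cases hK : 2 < Nat.card K
  · refine ⟨hK, tricho bh fun b hb b' hb' hbN hbN' hd r hr => ?_⟩
    have hb0 : β b ≠ 0 := by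
      intro h0
      refine hbN (bh.mem_NN_of_c (hUV (hXU hw)) hwE hb ?_)
      have h1 : c w b = w * (b * w * b⁻¹)⁻¹ := by rw [c]; group
      rw [h1, hone b hb h0 w hw, mul_inv_cancel]
      exact one_mem _
    have hb0' : β b' ≠ 0 := by
      intro h0
      refine hbN' (bh.mem_NN_of_c (hUV (hXU hw)) hwE hb' ?_)
      have h1 : c w b' = w * (b' * w * b'⁻¹)⁻¹ := by rw [c]; group
      rw [h1, hone b' hb' h0 w hw, mul_inv_cancel]
      exact one_mem _
    have hne : β b ≠ β b' := by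
      intro h0
      refine hd (bh.mem_NN_of_c (hUV (hXU hw)) hwE (mul_mem (inv_mem hb) hb') ?_)
      have h1 : c w (b⁻¹ * b') = w * (b⁻¹ * (b' * w * b'⁻¹) * b)⁻¹ := by rw [c]; group
      rw [h1, ← hsame b hb b' hb' h0 w hw]
      have h2 : w * (b⁻¹ * (b * w * b⁻¹) * b)⁻¹ = 1 := by group
      rw [h2]
      exact one_mem _
    obtain ⟨b₁, hb₁, hr₁⟩ := bh.surj (hUV (hXU hw)) hwE hr
    -- `[w, b₁]` is in `R^`
    have e1 : c w b₁ = g b₁ * w * (g b₁)⁻¹ * w⁻¹ := by
      rw [← hβ b₁ hb₁ w hw]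
      have h1 : c w b₁ = (b₁ * w * b₁⁻¹ * w⁻¹)⁻¹ := by rw [c]; group
      rw [h1]
      exact h.inv_eq (mul_mem (h.memV (hBP b₁ hb₁) (hXU hw)) (inv_mem (hXU hw)))
    have hmem : c w b₁ ∈ blk M j := by
      rw [e1]
      exact mem_blk (hg b₁ hb₁) (hgA b₁ hb₁) (hXU hw)
    have hco : M.e (c w b₁) j 1 = 0 := by
      rw [e1, h.e_div (h.memV (hg b₁ hb₁) (hXU hw)) (hXU hw), Pi.add_apply, Pi.add_apply,
        (hgA b₁ hb₁).1 _ (hXU hw) j, sg_self, ap_up_1]
      exact CharTwo.add_self_eq_zero _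
    obtain ⟨m, hm, m', hm', hmm⟩ := star_blk h hK hb0 hb0' hne (hg b hb) (hgA b hb) (hg b' hb') (hgA b' hb') hmem hco
    have ec : ∀ b ∈ B, ∀ m ∈ blk M j, c m b = g b * m * (g b)⁻¹ * m⁻¹ := by
      intro b hb m hm
      rw [← hβ b hb m hm]
      have h1 : c m b = (b * m * b⁻¹ * m⁻¹)⁻¹ := by rw [c]; group
      rw [h1]
      exact h.inv_eq (mul_mem (h.memV (hBP b hb) (hXU hm)) (inv_mem (hXU hm)))
    refine ⟨m, hUV (hXU hm), m', hUV (hXU hm'), ?_⟩
    rw [ec b hb m hm, ec b' hb' m' hm', ← hmm]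
    exact hr₁
  · -- `|K| = 2`
    exfalso
    have hK2 : ∀ x : K, x ≠ 0 → x = 1 := by
      intro x hx
      by_contra hx1
      apply hK
      classical
      have := Fintype.ofFinite K
      rw [Nat.card_eq_fintype_card]
      have h1 : ({0, 1, x} : Finset K).card ≤ Fintype.card K := Finset.card_le_univ _
      have h2 : ({0, 1, x} : Finset K).card = 3 := by
        rw [Finset.card_eq_three]
        exact ⟨0, 1, x, zero_ne_one, Ne.symm hx, Ne.symm hx1, rfl⟩
      omega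
    refine q.t1 w (hXU hw) hwE fun b hb b' hb' hm hm' => ?_
    have hb0 : β b ≠ 0 := fun h0 => hm (hone b hb h0 w hw)
    have hb0' : β b' ≠ 0 := fun h0 => hm' (hone b' hb' h0 w hw)
    exact hsame b hb b' hb' ((hK2 _ hb0).trans (hK2 _ hb0').symm) w hw

end bh

section final

variable {G : Type u} [Group G] [Finite G] {S : Sylow 2 G} {P V F B : Subgroup G}

/-- natural over a field with more than two elements -/
def NatBig (S P : Subgroup G) : Prop :=
  ∃ (K : Type) (_ : Field K) (_ : Finite K) (_ : CharP K 2) (k : ℕ),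
    0 < k ∧ 2 < Nat.card K ∧ Nonempty (NatKM K S P (zl S P) (cv S P) k)

/-- **(K1)** `i < a²`, or `i ≤ a`, or `i = 4`, `a = 2`. -/
theorem main (hc : IsCharacteristicTwoType G) (hP : IsParS (S : Subgroup G) P) (hT : ConclM (S : Subgroup G) P)
    (bh : BH V F B) (hsq : ∀ b ∈ B, b ^ 2 = 1) (hBS : B ≤ (S : Subgroup G)) (hUV : zl (S : Subgroup G) P ≤ V)
    (hUE : ¬ zl (S : Subgroup G) P ≤ EE V F) :
    F.relIndex (V ⊓ B) < (EE V F).relIndex V ^ 2 ∨ F.relIndex (V ⊓ B) ≤ (EE V F).relIndex V ∨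
      (F.relIndex (V ⊓ B) = 4 ∧ (EE V F).relIndex V = 2 ∧ NatBig (S : Subgroup G) P) := by
  by_cases h2 : 2 < F.relIndex (V ⊓ B)
  swap
  · right; left
    have := two_le bh
    omega
  have hI : ¬ V ⊓ B ≤ F := fun h => by
    rw [relIndex_eq_one.2 h] at h2
    omega
  have hQ := qb' (S := (S : Subgroup G)) bh hsq hBS hUV h2
  have hZU : zc (S : Subgroup G) ≤ zl (S : Subgroup G) P := MinSimple.VModule.zc_le_zl _ _
  have hZS : ∀ z ∈ zc (S : Subgroup G), ∀ s ∈ (S : Subgroup G), s * z = z * s := fun z hz s hs =>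
    (MinSimple.VModule.mem_zc.1 hz).2.1 s hs
  have hZE : zc (S : Subgroup G) ≤ EE V F := fun z hz =>
    mem_E_of_comm bh hI (hUV (hZU hz)) fun b hb => hZS z hz b (hBS hb)
  have hgen : ∀ K : Subgroup G, zc (S : Subgroup G) ≤ K → P ≤ normalizer (K : Set G) → zl (S : Subgroup G) P ≤ K :=
    fun K h1 h3 => MinSimple.VModule.zl_le h1 h3
  rcases hT with ⟨K, fK, fiK, cK, k, hk, ⟨N⟩⟩ | ⟨k, m, hk, hm, ⟨M⟩⟩
  · have hn := ThmB.Inst.nb hc hP N
    obtain ⟨j, hj⟩ := exists_blk hn hZU hZS hgen hZE hUE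
    obtain ⟨hK, h1 | h1 | h1⟩ := nat_main bh hn hQ hUV hj
    · exact Or.inl h1
    · exact Or.inr (Or.inl h1)
    · exact Or.inr (Or.inr ⟨h1.1, h1.2, K, fK, fiK, cK, k, hk, hK, ⟨N⟩⟩)
  · exact absurd (Sym.le_of_qb (ThmB.Inst.sb hc hP hm M) hQ hZU hZS hgen hZE) hUE

/-- **KEY for bad lines with a radical**: `[r, W] = [E, b]` for all `r ∈ I - F`, `b ∈ B - N`; or `i = 4`, `a = 2`. -/
theorem key (hc : IsCharacteristicTwoType G) (hP : IsParS (S : Subgroup G) P) (hT : ConclM (S : Subgroup G) P)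
    (bh : BH V F B) (hsq : ∀ b ∈ B, b ^ 2 = 1) (hBS : B ≤ (S : Subgroup G)) (hUV : zl (S : Subgroup G) P ≤ V)
    (hUE : ¬ zl (S : Subgroup G) P ≤ EE V F) :
    (∀ r ∈ V ⊓ B, r ∉ F → ∀ b ∈ B, b ∉ NN V F → ∀ y, (∃ s ∈ NOne.Flat.WW V F, c r s = y) ↔ ∃ e ∈ EE V F, c e b = y) ∨
      (F.relIndex (V ⊓ B) = 4 ∧ (EE V F).relIndex V = 2 ∧ NatBig (S : Subgroup G) P) := by
  rcases main hc hP hT bh hsq hBS hUV hUE with h1 | h1 | h1
  · exact Or.inl fun r hr hrF b hb hbN y => bh.root' h1 hr hrF hb hbN y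
  · exact Or.inl fun r hr hrF b hb hbN y => bh.root h1 hr hrF hb hbN y
  · exact Or.inr h1

end final

end Cfsg.Agent.Omega.NO3S.KeyRad
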