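import Cfsg.Agent.Mrg.Omega.NOne.Flat.Off


/-!
# The KEY with fewer hypotheses (#21048 (K0), (A)-(C))

`BH V F B`, `I = V ∩ B`, `i = |I : F|`, `a = |V : E|`.

* `root_of` : `r ∈ I` is congruent mod `F` to `[w, b]`, `w ∈ V - E`, `b ∈ B` ⟹ `[r, W] = [E, b]`;
* `BH.root'` **(K0)** : if `i < a²`, then `[r, W] = [E, b]` for all `r ∈ I - F`, `b ∈ B - N`;
* `tricho` **(K1)** : if `[V, b] [V, b'] F = I` for all `b, b' ∈ B - N` with `b⁻¹ b' ∉ N`, then `i < a²` or `i ≤ a` or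
  `i = 4`, `a = 2`.
-/

set_option autoImplicit false
set_option linter.unusedSectionVars false

namespace Cfsg.Agent.Omega.NO3S.KeyRad

open Subgroup Cfsg Cfsg.Agent.Omega.NoFF.Basic Cfsg.Agent.Omega.NOne.Frame
open Cfsg.Agent.Omega.NOne.NearFF (Near c c_def c_inv)
open Cfsg.Agent.Omega.NOne.Flat
open Cfsg.Agent.Omega.NOne.Flat.Hyp
open Cfsg.Agent.Omega.NOThreeL.Low.Key (BH)
open Cfsg.Agent.ZN (o2)
open Cfsg.Agent.MinSimple.VModule

universe u

/-- the number of elements different from a given one -/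
theorem card_ne {α : Type*} [Finite α] (x : α) : Nat.card {y : α // y ≠ x} = Nat.card α - 1 := by
  classical
  have := Fintype.ofFinite α
  rw [Nat.card_eq_fintype_card, Nat.card_eq_fintype_card]
  exact Set.card_ne_eq x

variable {G : Type u} [Group G] {V F B : Subgroup G}

variable (h : BH V F B)
include h

/-- `[r, W] = [E, b]` for `r ∈ [w, b] F`, `w ∈ V - E` -/
theorem root_of [Finite G] {w r b : G} (hw : w ∈ V) (hwE : w ∉ EE V F) (hr : r ∈ V ⊓ B) (hb : b ∈ B)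
    (hwr : (c w b)⁻¹ * r ∈ F) (y : G) : (∃ s ∈ WW V F, c r s = y) ↔ ∃ e ∈ EE V F, c e b = y := by
  have hbW := h.le_W hb
  have key : ∀ s ∈ WW V F, c r s = c (c w s) b := by
    intro s hs
    rw [h.toHyp.beta_comm hw hs hbW]
    exact (h.toHyp.c_congr_left (h.toHyp.c_memV hw hbW) hr.1 hs hwr).symm
  constructor
  · rintro ⟨s, hs, rfl⟩
    exact ⟨c w s, h.toHyp.c_memE hw hs, (key s hs).symm⟩
  · rintro ⟨e, he, rfl⟩
    obtain ⟨s, hs, hse⟩ := h.toHyp.surj hw hwE he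
    refine ⟨s, hs, ?_⟩
    rw [key s hs]
    refine h.toHyp.c_congr_left (h.toHyp.c_memV hw hs) he.1 hbW ?_
    exact h.toHyp.inv_mul_mem (h.toHyp.c_memV hw hs) he.1 hse

/-- `c u b` for `b ∈ B` as a homomorphism modulo `F` -/
theorem c_mul [Finite G] {u v b : G} (hu : u ∈ V) (hv : v ∈ V) (hb : b ∈ B) : c (u * v) b = c u b * c v b :=
  h.toHyp.c_mul_left hu hv (h.le_W hb)

theorem c_inv' [Finite G] {u b : G} (hu : u ∈ V) (hb : b ∈ B) : c u⁻¹ b = (c u b)⁻¹ :=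
  h.toHyp.c_inv_left hu (h.le_W hb)

/-- the coset of `c u b` determines the coset of `u` -/
theorem mem_E_iff [Finite G] {u b : G} (hu : u ∈ V) (hb : b ∈ B) (hbN : b ∉ NN V F) : c u b ∈ F ↔ u ∈ EE V F :=
  ⟨fun h1 => h.mem_E_of_c hu hb hbN h1, fun h1 => h.toHyp.comm_EW h1 (h.le_W hb)⟩

/-- if `i < a²`, then two of the groups `[V, b] F / F`, `b ∈ B - N`, intersect nontrivially -/
theorem exists_common [Finite G] (hlt : F.relIndex (V ⊓ B) < (EE V F).relIndex V ^ 2) {b b' : G} (hb : b ∈ B)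
    (hbN : b ∉ NN V F) (hb' : b' ∈ B) (hbN' : b' ∉ NN V F) :
    ∃ u ∈ V, ∃ u' ∈ V, u ∉ EE V F ∧ u' ∉ EE V F ∧ (c u b)⁻¹ * c u' b' ∈ F := by
  classical
  -- the map `V/E × V/E → I/F`
  let f : (V ⧸ (EE V F).subgroupOf V) × (V ⧸ (EE V F).subgroupOf V) →
      (V ⊓ B : Subgroup G) ⧸ F.subgroupOf (V ⊓ B) := fun p =>
    QuotientGroup.mk (⟨(c (p.1.out : G) b)⁻¹ * c (p.2.out : G) b',
      mul_mem (inv_mem (h.c_memI p.1.out.2 hb)) (h.c_memI p.2.out.2 hb')⟩ : (V ⊓ B : Subgroup G))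
  have hni : ¬ Function.Injective f := by
    intro hinj
    have h1 := Nat.card_le_card_of_injective f hinj
    rw [Nat.card_prod, ← pow_two] at h1
    have h2 : F.relIndex (V ⊓ B) < (EE V F).relIndex V ^ 2 := hlt
    rw [relIndex, relIndex, index_eq_card, index_eq_card] at h2
    omega
  rw [Function.Injective] at hni
  push Not at hni
  obtain ⟨⟨p1, p2⟩, ⟨q1, q2⟩, hpq, hne⟩ := hni
  have hp : (QuotientGroup.mk (⟨(c (p1.out : G) b)⁻¹ * c (p2.out : G) b',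
      mul_mem (inv_mem (h.c_memI p1.out.2 hb)) (h.c_memI p2.out.2 hb')⟩ : (V ⊓ B : Subgroup G)) :
      (V ⊓ B : Subgroup G) ⧸ F.subgroupOf (V ⊓ B)) =
    QuotientGroup.mk (⟨(c (q1.out : G) b)⁻¹ * c (q2.out : G) b',
      mul_mem (inv_mem (h.c_memI q1.out.2 hb)) (h.c_memI q2.out.2 hb')⟩ : (V ⊓ B : Subgroup G)) := hpq
  rw [QuotientGroup.eq, mem_subgroupOf] at hp
  have hp' : ((c (p1.out : G) b)⁻¹ * c (p2.out : G) b')⁻¹ * ((c (q1.out : G) b)⁻¹ * c (q2.out : G) b') ∈ F := hp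
  have hV : ∀ {u v : G}, u ∈ V → v ∈ V → u * v = v * u := fun hu hv => h.toHyp.V_comm hu hv
  have m1 := (h.c_memI p1.out.2 hb).1
  have m2 := (h.c_memI p2.out.2 hb').1
  have m3 := (h.c_memI q1.out.2 hb).1
  have m4 := (h.c_memI q2.out.2 hb').1
  have aux : ∀ x1 x2 x3 x4 : G, x1 ∈ V → x2 ∈ V → x3 ∈ V →
      x2⁻¹ * x1 * (x3⁻¹ * x4) = x3⁻¹ * x1 * (x2⁻¹ * x4) := by
    intro x1 x2 x3 x4 m1 m2 m3
    calc x2⁻¹ * x1 * (x3⁻¹ * x4) = x2⁻¹ * (x1 * x3⁻¹) * x4 := by group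
      _ = (x1 * x3⁻¹) * x2⁻¹ * x4 := by rw [hV (inv_mem m2) (mul_mem m1 (inv_mem m3))]
      _ = (x3⁻¹ * x1) * x2⁻¹ * x4 := by rw [hV m1 (inv_mem m3)]
      _ = _ := by group
  have e1 : ((c (p1.out : G) b)⁻¹ * c (p2.out : G) b')⁻¹ * ((c (q1.out : G) b)⁻¹ * c (q2.out : G) b') =
      (c ((p1.out : G)⁻¹ * q1.out) b)⁻¹ * c ((p2.out : G)⁻¹ * q2.out) b' := by
    rw [c_mul h (inv_mem p1.out.2) q1.out.2 hb, c_mul h (inv_mem p2.out.2) q2.out.2 hb', c_inv' h p1.out.2 hb,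
      c_inv' h p2.out.2 hb', mul_inv_rev, inv_inv, mul_inv_rev, inv_inv]
    exact aux _ _ _ _ m1 m2 m3
  rw [e1] at hp'
  have n1 : (p1.out : G)⁻¹ * q1.out ∈ V := mul_mem (inv_mem p1.out.2) q1.out.2
  have n2 : (p2.out : G)⁻¹ * q2.out ∈ V := mul_mem (inv_mem p2.out.2) q2.out.2
  have k1 : c ((p1.out : G)⁻¹ * q1.out) b ∈ F ↔ c ((p2.out : G)⁻¹ * q2.out) b' ∈ F := by
    constructor
    · intro h1
      have : c ((p2.out : G)⁻¹ * q2.out) b' = c ((p1.out : G)⁻¹ * q1.out) b *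
          ((c ((p1.out : G)⁻¹ * q1.out) b)⁻¹ * c ((p2.out : G)⁻¹ * q2.out) b') := by group
      rw [this]
      exact mul_mem h1 hp'
    · intro h1
      have : c ((p1.out : G)⁻¹ * q1.out) b = c ((p2.out : G)⁻¹ * q2.out) b' *
          ((c ((p1.out : G)⁻¹ * q1.out) b)⁻¹ * c ((p2.out : G)⁻¹ * q2.out) b')⁻¹ := by group
      rw [this]
      exact mul_mem h1 (inv_mem hp')
  rw [mem_E_iff h n1 hb hbN, mem_E_iff h n2 hb' hbN'] at k1
  have out_eq : ∀ {p q : V ⧸ (EE V F).subgroupOf V}, (p.out : G)⁻¹ * q.out ∈ EE V F → p = q := by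
    intro p q h1
    rw [← QuotientGroup.out_eq' p, ← QuotientGroup.out_eq' q, QuotientGroup.eq, mem_subgroupOf]
    simpa using h1
  by_cases h1 : (p1.out : G)⁻¹ * q1.out ∈ EE V F
  · exact absurd (Prod.ext (out_eq h1) (out_eq (k1.1 h1))) hne
  · exact ⟨_, n1, _, n2, h1, fun h2 => h1 (k1.2 h2), hp'⟩

/-- **(K0)** -/
theorem _root_.Cfsg.Agent.Omega.NOThreeL.Low.Key.BH.root' [Finite G] (hlt : F.relIndex (V ⊓ B) < (EE V F).relIndex V ^ 2) {r b : G} (hr : r ∈ V ⊓ B)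
    (hrF : r ∉ F) (hb : b ∈ B) (hbN : b ∉ NN V F) (y : G) :
    (∃ s ∈ WW V F, c r s = y) ↔ ∃ e ∈ EE V F, c e b = y := by
  obtain ⟨w, hw, hwE⟩ := h.toHyp.exists_not_mem
  obtain ⟨b', hb', hwr⟩ := h.surj hw hwE hr
  have hbN' : b' ∉ NN V F := by
    intro h1
    have h2 := h.toHyp.c_mem_F hw h1
    apply hrF
    have : r = c w b' * ((c w b')⁻¹ * r) := by group
    rw [this]
    exact mul_mem h2 hwr
  obtain ⟨u, hu, u', hu', huE, huE', huu⟩ := exists_common h hlt hb hbN hb' hbN'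
  rw [root_of h hw hwE hr hb' hwr, ← root_of h (r := c u' b') hu' huE' (h.c_memI hu' hb') hb'
    (by rw [inv_mul_cancel]; exact one_mem _), root_of h hu huE (h.c_memI hu' hb') hb huu]

/-- `a² ≤ i`, `[V, b] [V, b'] F = I`: then `[V, b] F ∩ [V, b'] F = F`, and `i = a²` -/
theorem indep [Finite G] (hle : (EE V F).relIndex V ^ 2 ≤ F.relIndex (V ⊓ B)) {b b' : G} (hb : b ∈ B)
    (hbN : b ∉ NN V F) (hb' : b' ∈ B) (hbN' : b' ∉ NN V F)
    (hs : ∀ r ∈ V ⊓ B, ∃ u ∈ V, ∃ u' ∈ V, (c u b * c u' b')⁻¹ * r ∈ F) :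
    F.relIndex (V ⊓ B) = (EE V F).relIndex V ^ 2 ∧
      ∀ u ∈ V, ∀ u' ∈ V, (c u b)⁻¹ * c u' b' ∈ F → u ∈ EE V F := by
  classical
  have hV : ∀ {u v : G}, u ∈ V → v ∈ V → u * v = v * u := fun hu hv => h.toHyp.V_comm hu hv
  let f : (V ⧸ (EE V F).subgroupOf V) × (V ⧸ (EE V F).subgroupOf V) →
      (V ⊓ B : Subgroup G) ⧸ F.subgroupOf (V ⊓ B) := fun p =>
    QuotientGroup.mk (⟨c (p.1.out : G) b * c (p.2.out : G) b',
      mul_mem (h.c_memI p.1.out.2 hb) (h.c_memI p.2.out.2 hb')⟩ : (V ⊓ B : Subgroup G))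
  -- the values
  have hf : ∀ u (hu : u ∈ V) u' (hu' : u' ∈ V), f (QuotientGroup.mk ⟨u, hu⟩, QuotientGroup.mk ⟨u', hu'⟩) =
      QuotientGroup.mk (⟨c u b * c u' b', mul_mem (h.c_memI hu hb) (h.c_memI hu' hb')⟩ : (V ⊓ B : Subgroup G)) := by
    intro u hu u' hu'
    have ho : ∀ v (hv : v ∈ V), v⁻¹ * ((QuotientGroup.mk ⟨v, hv⟩ : V ⧸ (EE V F).subgroupOf V).out : G) ∈ EE V F := by
      intro v hv
      have h1 := QuotientGroup.eq.1
        (QuotientGroup.out_eq' (QuotientGroup.mk ⟨v, hv⟩ : V ⧸ (EE V F).subgroupOf V)).symm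
      rw [mem_subgroupOf] at h1
      exact h1
    generalize hp : (QuotientGroup.mk ⟨u, hu⟩ : V ⧸ (EE V F).subgroupOf V) = p
    generalize hp' : (QuotientGroup.mk ⟨u', hu'⟩ : V ⧸ (EE V F).subgroupOf V) = p'
    have h1 := ho u hu
    have h2 := ho u' hu'
    rw [hp] at h1
    rw [hp'] at h2
    have m1 := (h.c_memI hu hb).1
    have m2 := (h.c_memI hu' hb').1
    have m3 := (h.c_memI p.out.2 hb).1
    have m4 := (h.c_memI p'.out.2 hb').1
    change (QuotientGroup.mk (⟨c (p.out : G) b * c (p'.out : G) b',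
      mul_mem (h.c_memI p.out.2 hb) (h.c_memI p'.out.2 hb')⟩ : (V ⊓ B : Subgroup G)) :
      (V ⊓ B : Subgroup G) ⧸ F.subgroupOf (V ⊓ B)) = _
    symm
    rw [QuotientGroup.eq, mem_subgroupOf]
    change (c u b * c u' b')⁻¹ * (c (p.out : G) b * c (p'.out : G) b') ∈ F
    have aux : ∀ x1 x2 x3 x4 : G, x1 ∈ V → x2 ∈ V → x3 ∈ V →
        (x1 * x2)⁻¹ * (x3 * x4) = x1⁻¹ * x3 * (x2⁻¹ * x4) := by
      intro x1 x2 x3 x4 m1 m2 m3
      calc (x1 * x2)⁻¹ * (x3 * x4) = x2⁻¹ * (x1⁻¹ * x3) * x4 := by group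
        _ = x1⁻¹ * x3 * x2⁻¹ * x4 := by rw [hV (inv_mem m2) (mul_mem (inv_mem m1) m3)]
        _ = _ := by group
    have e1 : (c u b * c u' b')⁻¹ * (c (p.out : G) b * c (p'.out : G) b') =
        c (u⁻¹ * (p.out : G)) b * c (u'⁻¹ * (p'.out : G)) b' := by
      rw [c_mul h (inv_mem hu) p.out.2 hb, c_mul h (inv_mem hu') p'.out.2 hb', c_inv' h hu hb, c_inv' h hu' hb']
      exact aux _ _ _ _ m1 m2 m3
    rw [e1]
    exact mul_mem ((mem_E_iff h (mul_mem (inv_mem hu) p.out.2) hb hbN).2 h1)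
      ((mem_E_iff h (mul_mem (inv_mem hu') p'.out.2) hb' hbN').2 h2)
  have hsurj : Function.Surjective f := by
    intro z
    refine Quotient.inductionOn' z fun r => ?_
    obtain ⟨u, hu, u', hu', h1⟩ := hs r r.2
    refine ⟨(QuotientGroup.mk ⟨u, hu⟩, QuotientGroup.mk ⟨u', hu'⟩), ?_⟩
    rw [hf]
    change _ = (QuotientGroup.mk r : (V ⊓ B : Subgroup G) ⧸ F.subgroupOf (V ⊓ B))
    rw [QuotientGroup.eq, mem_subgroupOf]
    exact h1
  have hc1 : Nat.card ((V ⧸ (EE V F).subgroupOf V) × (V ⧸ (EE V F).subgroupOf V)) = (EE V F).relIndex V ^ 2 := by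
    rw [Nat.card_prod, ← pow_two, relIndex, index_eq_card]
  have hc2 : Nat.card ((V ⊓ B : Subgroup G) ⧸ F.subgroupOf (V ⊓ B)) = F.relIndex (V ⊓ B) := by
    rw [relIndex, index_eq_card]
  have h1 := Nat.card_le_card_of_surjective f hsurj
  rw [hc1, hc2] at h1
  have heq : F.relIndex (V ⊓ B) = (EE V F).relIndex V ^ 2 := le_antisymm h1 hle
  refine ⟨heq, fun u hu u' hu' huu => ?_⟩
  have hbij : Function.Bijective f := (Nat.bijective_iff_surjective_and_card f).2 ⟨hsurj, by rw [hc1, hc2, heq]⟩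
  -- `f (u, 1) = f (1, u')`
  have e1 : f (QuotientGroup.mk ⟨u, hu⟩, QuotientGroup.mk ⟨1, one_mem V⟩) =
      f (QuotientGroup.mk ⟨1, one_mem V⟩, QuotientGroup.mk ⟨u', hu'⟩) := by
    rw [hf, hf, QuotientGroup.eq, mem_subgroupOf]
    change (c u b * c 1 b')⁻¹ * (c 1 b * c u' b') ∈ F
    have e2 : ∀ g : G, c 1 g = 1 := fun g => by rw [c]; group
    rw [e2, e2, mul_one, one_mul]
    exact huu
  have e2 := congrArg Prod.fst (hbij.1 e1)
  have e3 : (QuotientGroup.mk ⟨u, hu⟩ : V ⧸ (EE V F).subgroupOf V) = QuotientGroup.mk ⟨1, one_mem V⟩ := e2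
  rw [QuotientGroup.eq, mem_subgroupOf] at e3
  have e4 : u⁻¹ * 1 ∈ EE V F := e3
  rw [mul_one] at e4
  exact (inv_mem_iff).1 e4

/-- **(K1)** -/
theorem tricho [Finite G] (hs : ∀ b ∈ B, ∀ b' ∈ B, b ∉ NN V F → b' ∉ NN V F → b⁻¹ * b' ∉ NN V F →
    ∀ r ∈ V ⊓ B, ∃ u ∈ V, ∃ u' ∈ V, (c u b * c u' b')⁻¹ * r ∈ F) :
    F.relIndex (V ⊓ B) < (EE V F).relIndex V ^ 2 ∨ F.relIndex (V ⊓ B) ≤ (EE V F).relIndex V ∨
      (F.relIndex (V ⊓ B) = 4 ∧ (EE V F).relIndex V = 2) := by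
  classical
  have ha0 : (EE V F).relIndex V ≠ 0 := index_ne_zero_of_finite
  have ha1 : (EE V F).relIndex V ≠ 1 := by
    obtain ⟨w, hw, hwE⟩ := h.toHyp.exists_not_mem
    exact fun h1 => hwE (relIndex_eq_one.1 h1 hw)
  by_contra hcon
  push Not at hcon
  obtain ⟨hle, hlt, h4⟩ := hcon
  have hI : ¬ V ⊓ B ≤ F := fun h1 => by
    rw [relIndex_eq_one.2 h1] at hlt
    omega
  obtain ⟨b₀, hb₀, hb₀N⟩ := h.exists_not_mem_NN hI
  -- two different cosets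
  obtain ⟨b₁, hb₁, hb₁N, hd⟩ : ∃ b ∈ B, b ∉ NN V F ∧ b₀⁻¹ * b ∉ NN V F := by
    by_contra hall
    push Not at hall
    have h5 : (NN V F).relIndex B ≤ 2 := by
      rw [relIndex, index_eq_card]
      refine (Nat.card_le_card_of_surjective
        (fun i : Bool => if i then (QuotientGroup.mk (⟨b₀, hb₀⟩ : B) : B ⧸ (NN V F).subgroupOf B)
          else QuotientGroup.mk (1 : B)) ?_).trans (by simp)
      intro y
      refine Quotient.inductionOn' y fun a => ?_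
      by_cases ha : (a : G) ∈ NN V F
      · refine ⟨false, ?_⟩
        change (QuotientGroup.mk (1 : B) : B ⧸ (NN V F).subgroupOf B) = QuotientGroup.mk a
        rw [QuotientGroup.eq, mem_subgroupOf]
        simpa using ha
      · refine ⟨true, ?_⟩
        change (QuotientGroup.mk (⟨b₀, hb₀⟩ : B) : B ⧸ (NN V F).subgroupOf B) = QuotientGroup.mk a
        rw [QuotientGroup.eq, mem_subgroupOf]
        exact hall a a.2 ha
    rw [h.relIndex_B] at h5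
    omega
  obtain ⟨heq, -⟩ := indep h hle hb₀ hb₀N hb₁ hb₁N (hs b₀ hb₀ b₁ hb₁ hb₀N hb₁N hd)
  -- `(B / N - 1) × (V / E - 1) → I / F - 1`
  let X := {q : B ⧸ (NN V F).subgroupOf B // q ≠ QuotientGroup.mk 1}
  let Y := {p : V ⧸ (EE V F).subgroupOf V // p ≠ QuotientGroup.mk 1}
  let Z := {z : (V ⊓ B : Subgroup G) ⧸ F.subgroupOf (V ⊓ B) // z ≠ QuotientGroup.mk 1}
  have hX : ∀ q : X, (q.1.out : G) ∉ NN V F := by
    intro q h1
    refine q.2 ?_
    rw [← QuotientGroup.out_eq' q.1, eq_comm, QuotientGroup.eq, mem_subgroupOf]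
    simpa using h1
  have hY : ∀ p : Y, (p.1.out : G) ∉ EE V F := by
    intro p h1
    refine p.2 ?_
    rw [← QuotientGroup.out_eq' p.1, eq_comm, QuotientGroup.eq, mem_subgroupOf]
    simpa using h1
  let f : X × Y → Z := fun p => ⟨QuotientGroup.mk (⟨c (p.2.1.out : G) (p.1.1.out : G),
    h.c_memI p.2.1.out.2 p.1.1.out.2⟩ : (V ⊓ B : Subgroup G)), fun h1 => by
      rw [eq_comm, QuotientGroup.eq, mem_subgroupOf] at h1
      have h2 : (1 : G)⁻¹ * c (p.2.1.out : G) (p.1.1.out : G) ∈ F := h1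
      rw [inv_one, one_mul] at h2
      exact hX p.1 (h.mem_NN_of_c p.2.1.out.2 (hY p.2) p.1.1.out.2 h2)⟩
  have hinj : Function.Injective f := by
    rintro ⟨q, p⟩ ⟨q', p'⟩ hh
    have h1 : (QuotientGroup.mk (⟨c (p.1.out : G) (q.1.out : G), h.c_memI p.1.out.2 q.1.out.2⟩ :
        (V ⊓ B : Subgroup G)) : (V ⊓ B : Subgroup G) ⧸ F.subgroupOf (V ⊓ B)) =
        QuotientGroup.mk ⟨c (p'.1.out : G) (q'.1.out : G), h.c_memI p'.1.out.2 q'.1.out.2⟩ := congrArg Subtype.val hh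
    rw [QuotientGroup.eq, mem_subgroupOf] at h1
    have h2 : (c (p.1.out : G) (q.1.out : G))⁻¹ * c (p'.1.out : G) (q'.1.out : G) ∈ F := h1
    by_cases hq : (q.1.out : G)⁻¹ * q'.1.out ∈ NN V F
    · have e1 : q = q' := by
        apply Subtype.ext
        rw [← QuotientGroup.out_eq' q.1, ← QuotientGroup.out_eq' q'.1, QuotientGroup.eq, mem_subgroupOf]
        simpa using hq
      subst e1
      have e2 : p = p' := by
        apply Subtype.ext
        rw [← QuotientGroup.out_eq' p.1, ← QuotientGroup.out_eq' p'.1, QuotientGroup.eq, mem_subgroupOf]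
        have h3 := ((h.cos_V q.1.out.2 (hX q)).iff _ p.1.out.2 _ p'.1.out.2).1 h2
        simpa using h3
      rw [e2]
    · exact absurd ((indep h hle q.1.out.2 (hX q) q'.1.out.2 (hX q')
        (hs _ q.1.out.2 _ q'.1.out.2 (hX q) (hX q') hq)).2 _ p.1.out.2 _ p'.1.out.2 h2) (hY p)
  have h6 := Nat.card_le_card_of_injective f hinj
  have h7 : Nat.card X = F.relIndex (V ⊓ B) - 1 := by
    rw [card_ne, ← index_eq_card, ← relIndex, h.relIndex_B]
  have h8 : Nat.card Y = (EE V F).relIndex V - 1 := by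
    rw [card_ne, ← index_eq_card, ← relIndex]
  have h9 : Nat.card Z = F.relIndex (V ⊓ B) - 1 := by
    rw [card_ne, ← index_eq_card, ← relIndex]
  rw [Nat.card_prod, h7, h8, h9] at h6
  have h10 : 0 < F.relIndex (V ⊓ B) - 1 := by omega
  have h11 : (EE V F).relIndex V - 1 ≤ 1 := by
    by_contra h12
    push Not at h12
    have := Nat.mul_lt_mul_of_pos_left h12 h10
    omega
  have h12 : (EE V F).relIndex V = 2 := by omega
  rw [h12] at heq
  exact h4 (by rw [heq]; norm_num) h12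

end Cfsg.Agent.Omega.NO3S.KeyRad
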